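import Groth.Agent.Lib.NormalBC6.IntDiv
import Groth.Agent.Lib.FlatDepth.FibBC
import Mathlib

/-! # Normal rings: directed unions, localizations of tensor products, fractions -/

set_option autoImplicit false
set_option linter.style.haveILetI false
universe u

open TensorProduct

namespace Groth.Agent.NormalBC6

/-- A fraction with regular denominator, integral over a normal subring, lies in it. -/
theorem mem_range_of_normal {R W : Type u} [CommRing R] [CommRing W] [Algebra R W]
    (hR : EGA4.IsNormalRing R) (hinj : Function.Injective (algebraMap R W)) {w : W} (hw : IsIntegral R w) (c : R)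
    (hc : IsUnit (algebraMap R W c)) (hcw : algebraMap R W c * w ∈ (algebraMap R W).range) :
    w ∈ (algebraMap R W).range := by
  obtain ⟨a, ha⟩ := hcw
  let J : Ideal R :=
    { carrier := {s | algebraMap R W s * w ∈ (algebraMap R W).range}
      add_mem' := fun {s t} hs ht => by simp only [Set.mem_setOf_eq, map_add, add_mul] at *; exact add_mem hs ht
      zero_mem' := by simp only [Set.mem_setOf_eq, map_zero, zero_mul]; exact zero_mem _
      smul_mem' := fun r s hs => by
        simp only [Set.mem_setOf_eq, smul_eq_mul, map_mul, mul_assoc] at *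
        exact mul_mem ⟨r, rfl⟩ hs }
  by_contra hne
  obtain ⟨P, hP, hle⟩ := Ideal.exists_le_maximal J fun h => hne (by
    have h1 : (1 : R) ∈ J := h ▸ Submodule.mem_top
    simpa [J] using h1)
  haveI := hP.isPrime
  haveI := (hR P).1
  haveI := (hR P).2
  let f := algebraMap R (Localization.AtPrime P)
  have hd : IntDiv c a := IntDiv.of_isIntegral hinj hw (by rw [mul_comm]; exact ha.symm)
  by_cases hfc : f c = 0
  · obtain ⟨s, hs⟩ := (IsLocalization.map_eq_zero_iff P.primeCompl _ c).1 hfc
    refine s.2 ?_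
    have : algebraMap R W (s : R) = 0 := hc.mul_left_eq_zero.1 (by rw [← map_mul, hs, map_zero])
    have : (s : R) = 0 := hinj (this.trans (map_zero _).symm)
    rw [this]
    exact zero_mem _
  · obtain ⟨q, hq⟩ := (hd.map f).dvd hfc
    obtain ⟨z, s, rfl⟩ := IsLocalization.exists_mk'_eq P.primeCompl q
    have h1 : f ((s : R) * a) = f (c * z) := by
      rw [map_mul, map_mul, hq, mul_left_comm, IsLocalization.mk'_spec']
    obtain ⟨t, ht⟩ := (IsLocalization.eq_iff_exists P.primeCompl _).1 h1
    refine (mul_mem t.2 s.2 : (t : R) * s ∈ P.primeCompl) (hle ?_)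
    refine ⟨t * z, hc.mul_left_cancel ?_⟩
    rw [mul_left_comm, ← ha, ← map_mul, ← map_mul, mul_assoc, ht]
    congr 1
    ring

/-- Directed unions of normal rings are normal. -/
theorem isNormalRing_of_directed {C : Type u} [CommRing C]
    (h : ∀ s : Finset C, ∃ (N : Type u) (_ : CommRing N) (i : N →+* C),
      EGA4.IsNormalRing N ∧ Function.Injective i ∧ (s : Set C) ⊆ Set.range i) :
    EGA4.IsNormalRing C := by
  classical
  intro P hP
  let R := Localization.AtPrime P
  let f := algebraMap C R
  have hdom : IsDomain R := by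
    refine @NoZeroDivisors.to_isDomain R _ _ ⟨fun {a b} hab => ?_⟩
    obtain ⟨x, s, rfl⟩ := IsLocalization.exists_mk'_eq P.primeCompl a
    obtain ⟨y, t, rfl⟩ := IsLocalization.exists_mk'_eq P.primeCompl b
    rw [← IsLocalization.mk'_mul, IsLocalization.mk'_eq_zero_iff] at hab
    obtain ⟨u, hu⟩ := hab
    obtain ⟨N, _, i, hN, hi, hsN⟩ := h {(u : C), x, y}
    obtain ⟨u', hu'⟩ := hsN (by simp : (u : C) ∈ _)
    obtain ⟨x', hx'⟩ := hsN (by simp : x ∈ _)
    obtain ⟨y', hy'⟩ := hsN (by simp : y ∈ _)
    haveI := (hN (P.comap i)).1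
    let g := algebraMap N (Localization.AtPrime (P.comap i))
    have hu0 : IsUnit (g u') := IsLocalization.map_units (M := (P.comap i).primeCompl) _
      (⟨u', fun hm => u.2 (hu' ▸ hm : (u : C) ∈ P)⟩ : (P.comap i).primeCompl)
    have h0 : g x' * g y' = 0 := hu0.mul_right_eq_zero.1 (by
      rw [← map_mul, ← map_mul, show u' * (x' * y') = 0 from hi (by
        rw [map_mul, map_mul, hu', hx', hy', hu, map_zero]), map_zero])
    rcases mul_eq_zero.1 h0 with h1 | h1
    · obtain ⟨v, hv⟩ := (IsLocalization.map_eq_zero_iff (P.comap i).primeCompl _ x').1 h1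
      left
      exact (IsLocalization.mk'_eq_zero_iff _ _).2
        ⟨⟨i v, v.2⟩, by rw [← hx']; exact (map_mul i _ _).symm.trans (by rw [hv, map_zero])⟩
    · obtain ⟨v, hv⟩ := (IsLocalization.map_eq_zero_iff (P.comap i).primeCompl _ y').1 h1
      right
      exact (IsLocalization.mk'_eq_zero_iff _ _).2
        ⟨⟨i v, v.2⟩, by rw [← hy']; exact (map_mul i _ _).symm.trans (by rw [hv, map_zero])⟩
  haveI := hdom
  refine ⟨hdom, ?_⟩
  rw [isIntegrallyClosed_iff (FractionRing R)]
  intro α hα
  obtain ⟨a₁, b₁, hb₁, rfl⟩ := IsFractionRing.div_surjective R α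
  obtain ⟨a, s, rfl⟩ := IsLocalization.exists_mk'_eq P.primeCompl a₁
  obtain ⟨b, t, rfl⟩ := IsLocalization.exists_mk'_eq P.primeCompl b₁
  have hb0 : algebraMap R (FractionRing R) (IsLocalization.mk' R b t) ≠ 0 :=
    IsFractionRing.to_map_ne_zero_of_mem_nonZeroDivisors hb₁
  have hd : IntDiv (f (b * s)) (f (a * t)) := by
    refine IntDiv.of_isIntegral (IsFractionRing.injective R (FractionRing R)) hα ?_
    rw [div_mul_eq_mul_div, div_eq_iff hb0, ← map_mul, ← map_mul]
    congr 1
    simp only [f, map_mul]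
    conv_lhs => rw [← IsLocalization.mk'_spec' R b t]
    conv_rhs => rw [← IsLocalization.mk'_spec' R a s]
    ring
  obtain ⟨n, r, hr⟩ := hd
  obtain ⟨d, hd⟩ := IsLocalization.exist_integer_multiples P.primeCompl (Finset.range n) r
  choose! c hc using hd
  let A₀ := (d : C) * (a * t)
  let B₀ := b * s
  let r₀ : ℕ → C := fun i => c i * (d : C) ^ (n - i - 1)
  have hC : f (A₀ ^ n + ∑ i ∈ Finset.range n, r₀ i * B₀ ^ (n - i) * A₀ ^ i) = 0 := by
    have h' : f ((d : C) ^ n) * (f (a * t) ^ n + ∑ i ∈ Finset.range n, r i * f (b * s) ^ (n - i) * f (a * t) ^ i) = 0 := by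
      rw [hr, mul_zero]
    rw [mul_add, Finset.mul_sum] at h'
    rw [← h', map_add, map_sum]
    congr 1
    · simp only [A₀, map_pow, map_mul, mul_pow]
    · refine Finset.sum_congr rfl fun i hi => ?_
      have hci : f (c i) = f (d : C) * r i := (hc i hi).trans (Algebra.smul_def _ _)
      have hin : i < n := Finset.mem_range.1 hi
      simp only [A₀, B₀, r₀, map_mul, map_pow, hci, mul_pow]
      conv_rhs => rw [show n = 1 + (n - i - 1) + i by omega, pow_add, pow_add, pow_one,
        show 1 + (n - i - 1) + i - i = n - i by omega]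
      ring
  have hB : f B₀ ≠ 0 := by
    intro hz
    rw [map_mul] at hz
    have hb2 : f b = 0 := (IsLocalization.map_units R s).mul_left_eq_zero.1 hz
    refine hb0 ?_
    rw [IsLocalization.mk'_eq_mul_mk'_one b t, show algebraMap C R b = 0 from hb2, zero_mul, map_zero]
  obtain ⟨v, hv⟩ := (IsLocalization.map_eq_zero_iff P.primeCompl R _).1 hC
  obtain ⟨N, _, i, hN, hi, hsN⟩ := h (insert (v : C) (insert A₀ (insert B₀ ((Finset.range n).image r₀))))
  obtain ⟨v', hv'⟩ := hsN (Finset.mem_coe.2 (Finset.mem_insert_self _ _))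
  obtain ⟨A', hA'⟩ := hsN (Finset.mem_coe.2 (Finset.mem_insert_of_mem (Finset.mem_insert_self _ _)))
  obtain ⟨B', hB'⟩ := hsN (Finset.mem_coe.2 (Finset.mem_insert_of_mem (Finset.mem_insert_of_mem (Finset.mem_insert_self _ _))))
  have hr' : ∀ k ∈ Finset.range n, ∃ z, i z = r₀ k := fun k hk =>
    hsN (Finset.mem_coe.2 (Finset.mem_insert_of_mem (Finset.mem_insert_of_mem
      (Finset.mem_insert_of_mem (Finset.mem_image_of_mem _ hk)))))
  choose! r' hr' using hr'
  have hNeq : v' * (A' ^ n + ∑ k ∈ Finset.range n, r' k * B' ^ (n - k) * A' ^ k) = 0 := hi (by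
    rw [map_mul, map_add, map_sum, map_pow, hv', hA', map_zero, ← hv]
    congr 2
    exact Finset.sum_congr rfl fun k hk => by simp only [map_mul, map_pow, hA', hB', hr' k hk])
  haveI := (hN (P.comap i)).1
  haveI := (hN (P.comap i)).2
  let g := algebraMap N (Localization.AtPrime (P.comap i))
  have hgB : g B' ≠ 0 := fun hz => by
    obtain ⟨u, hu⟩ := (IsLocalization.map_eq_zero_iff (P.comap i).primeCompl _ B').1 hz
    refine hB ((IsLocalization.map_eq_zero_iff P.primeCompl R _).2 ⟨⟨i u, u.2⟩, ?_⟩)
    rw [← hB']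
    exact (map_mul i _ _).symm.trans (by rw [hu, map_zero])
  have hgd : IntDiv (g B') (g A') := by
    have hv0 : IsUnit (g v') := IsLocalization.map_units (M := (P.comap i).primeCompl) _
      (⟨v', fun hm => v.2 (hv' ▸ hm : (v : C) ∈ P)⟩ : (P.comap i).primeCompl)
    refine ⟨n, fun k => g (r' k), hv0.mul_right_eq_zero.1 ?_⟩
    have := congrArg g hNeq
    simpa [map_sum] using this
  obtain ⟨q, hq⟩ := hgd.dvd hgB
  obtain ⟨z, e, rfl⟩ := IsLocalization.exists_mk'_eq (P.comap i).primeCompl q
  have h1 : g ((e : N) * A') = g (B' * z) := by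
    rw [map_mul, map_mul, hq, mul_left_comm, IsLocalization.mk'_spec']
  obtain ⟨w, hw⟩ := (IsLocalization.eq_iff_exists (P.comap i).primeCompl _).1 h1
  have hmul : f (i w * i e) * f A₀ = f B₀ * f (i w * i z) := by
    rw [← hA', ← hB', ← map_mul f, ← map_mul f, ← map_mul i, ← map_mul i, ← map_mul i, ← map_mul i, mul_assoc, hw]
    congr 2
    ring
  have hu : IsUnit (f (i w * i e * d)) := by
    rw [map_mul, map_mul]
    exact (((IsLocalization.map_units (M := P.primeCompl) R ⟨i w, w.2⟩)).mul
      (IsLocalization.map_units (M := P.primeCompl) R ⟨i e, e.2⟩)).mul (IsLocalization.map_units R d)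
  obtain ⟨ω, hω⟩ := hu.exists_left_inv
  refine ⟨f (i w * i z) * ω, ?_⟩
  rw [eq_div_iff hb0, ← map_mul]
  congr 1
  refine ((IsLocalization.map_units R t).mul (IsLocalization.map_units R s)).mul_left_cancel ?_
  have e1 := IsLocalization.mk'_spec' R a s
  have e2 := IsLocalization.mk'_spec' R b t
  simp only [f, A₀, B₀, map_mul] at hmul hω e1 e2 ⊢
  linear_combination (-ω) * hmul + algebraMap C R a * algebraMap C R t * hω
    + (algebraMap C R s * (algebraMap C R (i w) * algebraMap C R (i z) * ω)) * e2 - algebraMap C R t * e1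

/-- Normality of `B ⊗ A` is local on `B`. -/
theorem isNormalRing_tensor_of_local (k A B : Type u) [CommRing k] [CommRing A] [CommRing B] [Algebra k A]
    [Algebra k B] (h : ∀ (q : Ideal B) [q.IsPrime], EGA4.IsNormalRing (Localization.AtPrime q ⊗[k] A)) :
    EGA4.IsNormalRing (B ⊗[k] A) := by
  intro P _
  let q := P.comap (algebraMap B (B ⊗[k] A))
  haveI : q.IsPrime := Ideal.IsPrime.comap _
  let Bq := Localization.AtPrime q
  let D' := (B ⊗[k] A) ⊗[B] Bq
  have hD' : EGA4.IsNormalRing D' :=
    FlatDepth.isNormalRing_of_ringEquiv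
      ((Algebra.TensorProduct.cancelBaseChange k B B Bq A).symm.toRingEquiv.trans
        (Algebra.TensorProduct.comm B Bq (B ⊗[k] A)).toRingEquiv) (h q)
  haveI : IsLocalization (Algebra.algebraMapSubmonoid (B ⊗[k] A) q.primeCompl) D' := by infer_instance
  have hdisj : Disjoint (Algebra.algebraMapSubmonoid (B ⊗[k] A) q.primeCompl : Set (B ⊗[k] A))
      (P : Set (B ⊗[k] A)) := Set.disjoint_left.2 fun _ ⟨s, hs, hsx⟩ hP => hs (hsx ▸ hP : algebraMap B (B ⊗[k] A) s ∈ P)
  let P' := P.map (algebraMap (B ⊗[k] A) D')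
  haveI : P'.IsPrime := IsLocalization.isPrime_of_isPrime_disjoint _ D' P ‹_› hdisj
  have hc : P'.comap (algebraMap (B ⊗[k] A) D') = P := IsLocalization.under_map_of_isPrime_disjoint _ D' ‹_› hdisj
  haveI : IsLocalization.AtPrime (Localization.AtPrime P') P := by
    have h1 := IsLocalization.isLocalization_isLocalization_atPrime_isLocalization
      (Algebra.algebraMapSubmonoid (B ⊗[k] A) q.primeCompl) (Localization.AtPrime P') P'
    simpa only [hc] using h1
  let e : Localization.AtPrime P' ≃+* Localization.AtPrime P :=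
    (IsLocalization.algEquiv P.primeCompl _ _).toRingEquiv
  obtain ⟨h1, h2⟩ := hD' P'
  haveI : IsDomain (Localization.AtPrime P) := MulEquiv.isDomain _ e.symm.toMulEquiv
  exact ⟨inferInstance, IsIntegrallyClosed.of_equiv (R := Localization.AtPrime P') e⟩

/-- Reduced Artinian rings are normal. -/
theorem isNormalRing_of_artinian (R : Type u) [CommRing R] [IsArtinianRing R] [IsReduced R] : EGA4.IsNormalRing R := by
  intro P _
  haveI : IsReduced (Localization.AtPrime P) := isReduced_localizationPreserves P.primeCompl _ ‹_›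
  haveI : IsArtinianRing (Localization.AtPrime P) := inferInstance
  letI := (IsArtinianRing.isField_of_isReduced_of_isLocalRing (Localization.AtPrime P)).toField
  exact ⟨inferInstance, inferInstance⟩

end Groth.Agent.NormalBC6
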