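import Groth.Agent.Lib.NormalBC6.NormalTensor
import Groth.Agent.Lib.NormalBC6.Union
import Groth.Agent.Lib.NormalSmooth12.Basic
import Mathlib

/-! # Normality of tensor products over a field -/

set_option autoImplicit false
set_option linter.style.haveILetI false
universe u

open TensorProduct

namespace Groth.Agent.NormalBC6

theorem isIntegralElem_map {R S R' S' : Type u} [CommRing R] [CommRing S] [CommRing R'] [CommRing S'] {f : R →+* S}
    {f' : R' →+* S'} (h : R →+* R') (g : S →+* S') (hc : g.comp f = f'.comp h) {y : S} (hy : f.IsIntegralElem y) :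
    f'.IsIntegralElem (g y) := by
  obtain ⟨p, hp, hev⟩ := hy
  exact ⟨p.map h, hp.map h, by rw [Polynomial.eval₂_map, ← hc, ← Polynomial.hom_eval₂, hev, map_zero]⟩

/-- A base change with geometrically reduced fibres of an integrally closed extension is integrally closed. -/
theorem mem_range_of_integralElem {A A' B C : Type u} [CommRing A] [CommRing A'] [CommRing B] [CommRing C]
    [Algebra A A'] [IsNoetherianRing A] [Module.Flat A A'] [Algebra A B] [Algebra A C] [Algebra B C]
    [IsScalarTower A B C]
    (hA' : ∀ (p : Ideal A) [p.IsPrime], Algebra.IsGeometricallyReduced p.ResidueField (p.Fiber A'))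
    (hB : ∀ c : C, IsIntegral B c → c ∈ (algebraMap B C).range) {y : A' ⊗[A] C}
    (hy : (Algebra.TensorProduct.map (AlgHom.id A' A')
      (IsScalarTower.toAlgHom A B C)).toRingHom.IsIntegralElem y) :
    y ∈ (Algebra.TensorProduct.map (AlgHom.id A' A') (IsScalarTower.toAlgHom A B C)).range := by
  let g := Algebra.TensorProduct.map (AlgHom.id A' A') (IsScalarTower.toAlgHom A B C)
  have hy' : y ∈ integralClosure g.range (A' ⊗[A] C) := by
    obtain ⟨p, hp, hev⟩ := hy
    refine ⟨p.map g.rangeRestrict.toRingHom, hp.map _, ?_⟩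
    rw [Polynomial.eval₂_map]
    exact hev
  have := (Set.ext_iff.1 (integralClosure_map (B := B) (C := C) hA') y).1 hy'
  obtain ⟨z, rfl⟩ := this
  clear hy hy'
  induction z with
  | zero => rw [map_zero]; exact zero_mem _
  | tmul a d =>
    obtain ⟨b, hb⟩ := hB d.1 d.2
    exact ⟨a ⊗ₜ b, congrArg (fun t => a ⊗ₜ[A] t) hb⟩
  | add u v hu hv => rw [map_add]; exact add_mem hu hv

variable {k : Type u} [Field k]

theorem mem_range_inter {K K' A C : Type u} [CommRing K] [CommRing K'] [CommRing A] [CommRing C] [Algebra k K]
    [Algebra k K'] [Algebra k A] [Algebra k C] (j : K →ₐ[k] K') (hj : Function.Injective j) (φ : A →ₐ[k] C)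
    (hφ : Function.Injective φ) (y : K ⊗[k] C) (v : K' ⊗[k] A)
    (h : Algebra.TensorProduct.map j (AlgHom.id k C) y = Algebra.TensorProduct.map (AlgHom.id k K') φ v) :
    y ∈ (Algebra.TensorProduct.map (AlgHom.id k K) φ).range := by
  obtain ⟨r, hr⟩ := φ.toLinearMap.exists_leftInverse_of_injective (LinearMap.ker_eq_bot.2 hφ)
  refine ⟨TensorProduct.map LinearMap.id r y, ?_⟩
  apply Module.Flat.rTensor_preserves_injective_linearMap (M := C) j.toLinearMap hj
  have h1 : TensorProduct.map j.toLinearMap LinearMap.id (TensorProduct.map LinearMap.id φ.toLinearMap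
      (TensorProduct.map LinearMap.id r y)) =
      TensorProduct.map LinearMap.id (φ.toLinearMap.comp r) (TensorProduct.map j.toLinearMap LinearMap.id y) := by
    simp only [TensorProduct.map_map, LinearMap.id_comp, LinearMap.comp_id]
  refine h1.trans ?_
  change TensorProduct.map LinearMap.id (φ.toLinearMap.comp r) (Algebra.TensorProduct.map j (AlgHom.id k C) y) =
    Algebra.TensorProduct.map j (AlgHom.id k C) y
  rw [h]
  change TensorProduct.map LinearMap.id (φ.toLinearMap.comp r) (TensorProduct.map LinearMap.id φ.toLinearMap v) =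
    TensorProduct.map LinearMap.id φ.toLinearMap v
  rw [TensorProduct.map_map, LinearMap.id_comp, LinearMap.comp_assoc, hr, LinearMap.comp_id]

theorem mem_range_descend {K K' A C : Type u} [CommRing K] [CommRing K'] [CommRing A] [CommRing C] [Algebra k K]
    [Algebra k K'] [Algebra k A] [Algebra k C] (j : K →ₐ[k] K') (hj : Function.Injective j) (φ : A →ₐ[k] C)
    (hφ : Function.Injective φ)
    (hK' : ∀ y : K' ⊗[k] C, (Algebra.TensorProduct.map (AlgHom.id k K') φ).toRingHom.IsIntegralElem y →
      y ∈ (Algebra.TensorProduct.map (AlgHom.id k K') φ).range)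
    (y : K ⊗[k] C) (hy : (Algebra.TensorProduct.map (AlgHom.id k K) φ).toRingHom.IsIntegralElem y) :
    y ∈ (Algebra.TensorProduct.map (AlgHom.id k K) φ).range := by
  obtain ⟨v, hv⟩ := hK' _ (isIntegralElem_map (Algebra.TensorProduct.map j (AlgHom.id k A)).toRingHom
    (Algebra.TensorProduct.map j (AlgHom.id k C)).toRingHom
    (RingHom.ext fun x => by
      induction x with
      | zero => simp
      | tmul a b => rfl
      | add a b ha hb => rw [map_add, map_add, ha, hb]) hy)
  exact mem_range_inter j hj φ hφ y v hv.symm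

/-- The common argument for two domains. -/
theorem isNormalRing_tensor_domains (A B : Type u) [CommRing A] [CommRing B] [IsDomain A] [IsDomain B]
    [IsIntegrallyClosed B] [Algebra k A] [Algebra k B] [Algebra.IsGeometricallyReduced k (FractionRing A)]
    (hA : ∀ y : FractionRing B ⊗[k] FractionRing A,
      (Algebra.TensorProduct.map (AlgHom.id k (FractionRing B))
        (IsScalarTower.toAlgHom k A (FractionRing A))).toRingHom.IsIntegralElem y →
      y ∈ (Algebra.TensorProduct.map (AlgHom.id k (FractionRing B))
        (IsScalarTower.toAlgHom k A (FractionRing A))).range) :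
    EGA4.IsNormalRing (A ⊗[k] B) := by
  let Ka := FractionRing A
  let Kb := FractionRing B
  have hKa : EGA4.IsNormalHom k Ka := isNormalHom_of_geomReduced_field k Ka
  let ja : A →ₐ[k] Ka := IsScalarTower.toAlgHom k A Ka
  let jb : B →ₐ[k] Kb := IsScalarTower.toAlgHom k B Kb
  let g : A ⊗[k] B →ₐ[k] Ka ⊗[k] Kb := Algebra.TensorProduct.map ja jb
  letI : Algebra (A ⊗[k] B) (Ka ⊗[k] Kb) := g.toRingHom.toAlgebra
  have hja : Function.Injective ja := IsFractionRing.injective A Ka
  have hjb : Function.Injective jb := IsFractionRing.injective B Kb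
  refine isNormalRing_of_exhausted (W := Ka ⊗[k] Kb) ?_ (fun w hw => ?_) (exists_level hKa Kb)
  · intro x y hxy
    have e : ∀ t, g t = Algebra.TensorProduct.map (AlgHom.id k Ka) jb (Algebra.TensorProduct.map ja (AlgHom.id k B) t) :=
      fun t => (DFunLike.congr_fun (Algebra.TensorProduct.map_comp (AlgHom.id k Ka) ja jb (AlgHom.id k B)) t)
    change g x = g y at hxy
    rw [e, e] at hxy
    exact Module.Flat.rTensor_preserves_injective_linearMap (M := B) ja.toLinearMap hja
      (Module.Flat.lTensor_preserves_injective_linearMap (M := Ka) jb.toLinearMap hjb hxy)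
  · have hw1 : (Algebra.TensorProduct.map (AlgHom.id Ka Ka) jb).toRingHom.IsIntegralElem w := by
      refine isIntegralElem_map (g := RingHom.id _) (Algebra.TensorProduct.map ja (AlgHom.id k B)).toRingHom
        (RingHom.ext fun x => ?_) hw
      induction x with
      | zero => simp
      | tmul a b => rfl
      | add a b ha hb => rw [map_add, map_add, ha, hb]
    obtain ⟨u, hu⟩ := mem_range_of_integralElem (reducedFibres_of_isNormalHom hKa)
      (fun c hc => IsIntegrallyClosed.isIntegral_iff.1 hc) hw1
    let σ := (Algebra.TensorProduct.comm k Ka Kb).toAlgHom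
    have hw2 : (Algebra.TensorProduct.map (AlgHom.id k Kb) ja).toRingHom.IsIntegralElem (σ w) := by
      refine isIntegralElem_map (g := σ.toRingHom) ((Algebra.TensorProduct.map jb (AlgHom.id k A)).comp
        (Algebra.TensorProduct.comm k A B).toAlgHom).toRingHom
        (RingHom.ext fun x => ?_) hw
      induction x with
      | zero => simp
      | tmul a b => rfl
      | add a b ha hb => rw [map_add, map_add, ha, hb]
    obtain ⟨v, hv⟩ := hA _ hw2
    let y : A ⊗[k] Kb := Algebra.TensorProduct.comm k Kb A v
    have hy : Algebra.TensorProduct.map ja (AlgHom.id k Kb) y = w := by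
      have : Algebra.TensorProduct.map ja (AlgHom.id k Kb) y =
          Algebra.TensorProduct.comm k Kb Ka (Algebra.TensorProduct.map (AlgHom.id k Kb) ja v) := by
        clear hv
        simp only [y]
        induction v with
        | zero => simp
        | tmul a b => rfl
        | add a b ha hb => simp only [map_add, ha, hb]
      rw [this, show Algebra.TensorProduct.map (AlgHom.id k Kb) ja v = σ w from hv]
      exact (Algebra.TensorProduct.comm k Ka Kb).symm_apply_apply w
    obtain ⟨z, hz⟩ := mem_range_inter ja hja jb hjb y u (hy.trans hu.symm)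
    refine ⟨z, ?_⟩
    change g z = w
    rw [← hy, show y = Algebra.TensorProduct.map (AlgHom.id k A) jb z from hz.symm]
    exact DFunLike.congr_fun (Algebra.TensorProduct.map_comp ja (AlgHom.id k A) (AlgHom.id k Kb) jb) z

/-- Base change of a geometrically normal algebra to an algebraic extension is normal. -/
theorem isNormalRing_tensor_algebraic (K A : Type u) [Field K] [Algebra k K] [Algebra.IsAlgebraic k K] [CommRing A]
    [Algebra k A] (h : EGA4.IsGeomNormal k A) : EGA4.IsNormalRing (K ⊗[k] A) := by
  classical
  refine isNormalRing_of_directed fun s => ?_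
  choose t ht using fun x : K ⊗[k] A => exists_finset_tensor (A := k) (A' := A) x
  let L : IntermediateField k K := IntermediateField.adjoin k ((s.biUnion t : Finset K) : Set K)
  haveI : FiniteDimensional k L :=
    IntermediateField.finiteDimensional_adjoin fun x _ => Algebra.IsIntegral.isIntegral x
  refine ⟨L ⊗[k] A, inferInstance, (Algebra.TensorProduct.map L.val (AlgHom.id k A)).toRingHom, h L inferInstance,
    Module.Flat.rTensor_preserves_injective_linearMap (M := A) L.val.toLinearMap L.val.injective, fun x hx => ?_⟩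
  obtain ⟨w, hw⟩ := ht x L.toSubalgebra.toSubmodule fun a ha =>
    IntermediateField.subset_adjoin k _ (Finset.mem_biUnion.2 ⟨x, hx, ha⟩)
  exact ⟨w, hw⟩

/-- The base change of a geometrically normal domain to any field is integrally closed. -/
theorem mem_range_of_geomNormal (A : Type u) [CommRing A] [IsDomain A] [Algebra k A] (h : EGA4.IsGeomNormal k A)
    (K : Type u) [Field K] [Algebra k K] (y : K ⊗[k] FractionRing A)
    (hy : (Algebra.TensorProduct.map (AlgHom.id k K)
      (IsScalarTower.toAlgHom k A (FractionRing A))).toRingHom.IsIntegralElem y) :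
    y ∈ (Algebra.TensorProduct.map (AlgHom.id k K) (IsScalarTower.toAlgHom k A (FractionRing A))).range := by
  let Ka := FractionRing A
  let kb := AlgebraicClosure k
  let K' := AlgebraicClosure K
  let φ : A →ₐ[k] Ka := IsScalarTower.toAlgHom k A Ka
  have hφ : Function.Injective φ := IsFractionRing.injective A Ka
  letI : Algebra kb K' := (IsAlgClosed.lift : kb →ₐ[k] K').toRingHom.toAlgebra
  haveI : IsScalarTower k kb K' := .of_algebraMap_eq fun x => ((IsAlgClosed.lift : kb →ₐ[k] K').commutes x).symm
  let B := kb ⊗[k] A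
  let C := kb ⊗[k] Ka
  let ι : B →ₐ[kb] C := Algebra.TensorProduct.map (AlgHom.id kb kb) φ
  letI : Algebra B C := ι.toRingHom.toAlgebra
  haveI : IsScalarTower kb B C := .of_algebraMap_eq fun x => (ι.commutes x).symm
  have hι : Function.Injective ι := Module.Flat.lTensor_preserves_injective_linearMap (M := kb) φ.toLinearMap hφ
  have hB : ∀ c : C, IsIntegral B c → c ∈ (algebraMap B C).range := fun c hc => by
    have key : ∀ c : C, ∃ s : A, s ≠ 0 ∧ (1 : kb) ⊗ₜ[k] algebraMap A Ka s * c ∈ (algebraMap B C).range := by
      intro c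
      induction c using TensorProduct.induction_on with
      | zero => exact ⟨1, one_ne_zero, by rw [mul_zero]; exact zero_mem _⟩
      | tmul l x =>
        obtain ⟨a, s, hs, rfl⟩ := IsFractionRing.div_surjective A x
        refine ⟨s, nonZeroDivisors.ne_zero hs, l ⊗ₜ a, ?_⟩
        change l ⊗ₜ[k] algebraMap A Ka a = _
        rw [Algebra.TensorProduct.tmul_mul_tmul, one_mul, mul_div_cancel₀]
        exact IsFractionRing.to_map_ne_zero_of_mem_nonZeroDivisors hs
      | add c d hc hd =>
        obtain ⟨s, hs, hsc⟩ := hc
        obtain ⟨t, ht, htd⟩ := hd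
        refine ⟨s * t, mul_ne_zero hs ht, ?_⟩
        have e : (1 : kb) ⊗ₜ[k] algebraMap A Ka (s * t) * (c + d) =
            algebraMap B C ((1 : kb) ⊗ₜ t) * ((1 : kb) ⊗ₜ[k] algebraMap A Ka s * c) +
              algebraMap B C ((1 : kb) ⊗ₜ s) * ((1 : kb) ⊗ₜ[k] algebraMap A Ka t * d) := by
          change _ = (1 : kb) ⊗ₜ[k] algebraMap A Ka t * _ + (1 : kb) ⊗ₜ[k] algebraMap A Ka s * _
          rw [map_mul, show (1 : kb) ⊗ₜ[k] (algebraMap A Ka s * algebraMap A Ka t) =
            ((1 : kb) ⊗ₜ[k] algebraMap A Ka s) * ((1 : kb) ⊗ₜ[k] algebraMap A Ka t) by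
              rw [Algebra.TensorProduct.tmul_mul_tmul, one_mul]]
          ring
        rw [e]
        exact add_mem (mul_mem ⟨_, rfl⟩ hsc) (mul_mem ⟨_, rfl⟩ htd)
    obtain ⟨s, hs, hsc⟩ := key c
    refine mem_range_of_normal (isNormalRing_tensor_algebraic kb A h) hι hc ((1 : kb) ⊗ₜ s) ?_ hsc
    exact ((IsFractionRing.to_map_ne_zero_of_mem_nonZeroDivisors
      (mem_nonZeroDivisors_of_ne_zero hs) : algebraMap A Ka s ≠ 0).isUnit.map
      (Algebra.TensorProduct.includeRight : Ka →ₐ[k] C))
  haveI : Algebra.IsGeometricallyReduced kb K' := by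
    rw [Algebra.isGeometricallyReduced_field_iff]
    let e : kb ≃ₐ[kb] AlgebraicClosure kb := AlgEquiv.ofBijective (Algebra.ofId kb _)
      (IsAlgClosed.algebraMap_bijective_of_isIntegral)
    exact isReduced_of_injective
      ((Algebra.TensorProduct.congr e.symm (AlgEquiv.refl : K' ≃ₐ[kb] K')).trans (Algebra.TensorProduct.lid kb K'))
      (AlgEquiv.injective _)
  refine mem_range_descend (IsScalarTower.toAlgHom k K K') (algebraMap K K').injective φ hφ (fun z hz => ?_) y hy
  let eA := Algebra.TensorProduct.cancelBaseChange k kb K' K' A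
  let eC := Algebra.TensorProduct.cancelBaseChange k kb K' K' Ka
  have hz' : (Algebra.TensorProduct.map (AlgHom.id K' K') (IsScalarTower.toAlgHom kb B C)).toRingHom.IsIntegralElem
      (eC.symm z) := by
    refine isIntegralElem_map (g := eC.symm.toAlgHom.toRingHom) eA.symm.toAlgHom.toRingHom
      (RingHom.ext fun x => ?_) hz
    induction x with
    | zero => simp
    | tmul a b => rfl
    | add a b ha hb => rw [map_add, map_add, ha, hb]
  obtain ⟨u, hu⟩ := mem_range_of_integralElem (A := kb) (A' := K')
    (reducedFibres_of_isNormalHom (isNormalHom_of_geomReduced_field kb K')) hB hz'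
  refine ⟨eA u, ?_⟩
  have e : ∀ u, Algebra.TensorProduct.map (AlgHom.id k K') φ (eA u) =
      eC (Algebra.TensorProduct.map (AlgHom.id K' K') (IsScalarTower.toAlgHom kb B C) u) := by
    intro u
    obtain ⟨w, rfl⟩ := eA.symm.surjective u
    rw [eA.apply_symm_apply]
    induction w with
    | zero => simp
    | tmul a b =>
      rw [show eA.symm (a ⊗ₜ[k] b) = a ⊗ₜ[kb] ((1 : kb) ⊗ₜ[k] b) from
        Algebra.TensorProduct.cancelBaseChange_symm_tmul k kb K' K' A a b]
      refine ((eC.apply_symm_apply _).symm.trans (congrArg eC ?_))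
      exact Algebra.TensorProduct.cancelBaseChange_symm_tmul k kb K' K' Ka a (φ b)
    | add a b ha hb => simp only [map_add, ha, hb]
  refine (e u).trans ?_
  erw [hu]
  exact eC.apply_symm_apply z

/-- Localizations of geometrically normal algebras. -/
theorem isGeomNormal_localization {A : Type u} [CommRing A] [Algebra k A] (M : Submonoid A) (B : Type u) [CommRing B]
    [Algebra A B] [IsLocalization M B] [Algebra k B] [IsScalarTower k A B] (h : EGA4.IsGeomNormal k A) :
    EGA4.IsGeomNormal k B := by
  intro k' _ _ hk'
  let D' := (A ⊗[k] k') ⊗[A] B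
  haveI : IsLocalization (Algebra.algebraMapSubmonoid (A ⊗[k] k') M) D' := by infer_instance
  have hD : EGA4.IsNormalRing D' := NormalSmooth12.isNormalRing_localization
    (FlatDepth.isNormalRing_of_ringEquiv (Algebra.TensorProduct.comm k k' A).toRingEquiv (h k' hk'))
    (Algebra.algebraMapSubmonoid (A ⊗[k] k') M) D'
  exact FlatDepth.isNormalRing_of_ringEquiv ((Algebra.TensorProduct.comm A (A ⊗[k] k') B).toRingEquiv.trans
    ((Algebra.TensorProduct.cancelBaseChange k A B B k').toRingEquiv.trans
      (Algebra.TensorProduct.comm k B k').toRingEquiv)) hD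

theorem isNormalRing_of_isGeomNormal {A : Type u} [CommRing A] [Algebra k A] (h : EGA4.IsGeomNormal k A) :
    EGA4.IsNormalRing A :=
  FlatDepth.isNormalRing_of_ringEquiv (Algebra.TensorProduct.lid k A).toRingEquiv (h k inferInstance)

/-- Tensor product of a geometrically normal algebra and a normal ring. -/
theorem isNormalRing_tensor_geomNormal (A B : Type u) [CommRing A] [Algebra k A] [CommRing B] [Algebra k B]
    (hA : EGA4.IsGeomNormal k A) (hB : EGA4.IsNormalRing B) : EGA4.IsNormalRing (A ⊗[k] B) := by
  refine isNormalRing_tensor_of_local k B A fun q _ => ?_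
  let Aq := Localization.AtPrime q
  have hAq : EGA4.IsGeomNormal k Aq := isGeomNormal_localization q.primeCompl Aq hA
  haveI := (isNormalRing_of_isGeomNormal hA q).1
  refine FlatDepth.isNormalRing_of_ringEquiv (Algebra.TensorProduct.comm k B Aq).toRingEquiv
    (isNormalRing_tensor_of_local k Aq B fun q' _ => ?_)
  haveI := (hB q').1
  haveI := (hB q').2
  refine FlatDepth.isNormalRing_of_ringEquiv (Algebra.TensorProduct.comm k Aq (Localization.AtPrime q')).toRingEquiv ?_
  haveI : Algebra.IsGeometricallyReduced k (FractionRing Aq) := FlatDepth.geomReduced_of_geomNormal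
    (isGeomNormal_localization (nonZeroDivisors Aq) (FractionRing Aq) hAq)
  exact isNormalRing_tensor_domains Aq (Localization.AtPrime q') fun y hy =>
    mem_range_of_geomNormal Aq hAq (FractionRing (Localization.AtPrime q')) y hy

theorem isNormalRing_tensor_separable_domains (A B : Type u) [CommRing A] [CommRing B] [IsDomain A] [IsDomain B]
    [IsIntegrallyClosed A] [IsIntegrallyClosed B] [Algebra k A] [Algebra k B]
    [Algebra.IsGeometricallyReduced k (FractionRing A)] [Algebra.IsGeometricallyReduced k (FractionRing B)] :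
    EGA4.IsNormalRing (A ⊗[k] B) :=
  isNormalRing_tensor_domains A B fun y hy => mem_range_of_integralElem (A := k) (A' := FractionRing B)
    (B := A) (C := FractionRing A)
    (reducedFibres_of_isNormalHom (isNormalHom_of_geomReduced_field k (FractionRing B)))
    (fun c hc => IsIntegrallyClosed.isIntegral_iff.1 hc) hy

end Groth.Agent.NormalBC6
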