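import Groth.Agent.Lib.NormalBC6.TensorField
import Mathlib

/-! # Geometric normality and separable algebraic changes of the base field -/

set_option autoImplicit false
set_option linter.style.haveILetI false
universe u

open TensorProduct

namespace Groth.Agent.NormalBC6

/-- A quotient which is locally trivial along its kernel keeps normality. -/
theorem isNormalRing_of_surjective {S T : Type u} [CommRing S] [CommRing T] (π : S →+* T)
    (hπ : Function.Surjective π) (hS : EGA4.IsNormalRing S)
    (h : ∀ (Q : Ideal S) [Q.IsPrime], RingHom.ker π ≤ Q → ∀ z, π z = 0 →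
      algebraMap S (Localization.AtPrime Q) z = 0) : EGA4.IsNormalRing T := by
  intro P _
  let Q := P.comap π
  haveI : Q.IsPrime := Ideal.IsPrime.comap π
  have hQ : RingHom.ker π ≤ Q := fun z hz => by
    show π z ∈ P
    rw [hz]; exact zero_mem _
  let ψ := Localization.localRingHom Q P π rfl
  have hsur : Function.Surjective ψ := fun x => by
    obtain ⟨t, s, rfl⟩ := IsLocalization.exists_mk'_eq P.primeCompl x
    obtain ⟨a, rfl⟩ := hπ t
    obtain ⟨b, hb⟩ := hπ s
    refine ⟨IsLocalization.mk' _ a (⟨b, fun hm => s.2 (hb ▸ (hm : π b ∈ P))⟩ : Q.primeCompl), ?_⟩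
    rw [Localization.localRingHom_mk']
    congr 1
    exact Subtype.ext hb
  have hinj : Function.Injective ψ := (injective_iff_map_eq_zero ψ).2 fun x hx => by
    obtain ⟨z, s, rfl⟩ := IsLocalization.exists_mk'_eq Q.primeCompl x
    rw [Localization.localRingHom_mk', IsLocalization.mk'_eq_zero_iff] at hx
    obtain ⟨t, ht⟩ := hx
    obtain ⟨t', ht'⟩ := hπ t
    have h0 := h Q hQ (t' * z) (by rw [map_mul, ht']; exact ht)
    rw [map_mul] at h0
    have hz : algebraMap S (Localization.AtPrime Q) z = 0 :=
      (IsLocalization.map_units (M := Q.primeCompl) _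
        ⟨t', fun hm => t.2 (ht' ▸ (hm : π t' ∈ P))⟩).mul_right_eq_zero.1 h0
    rw [IsLocalization.mk'_eq_mul_mk'_one, hz, zero_mul]
  exact NormalSmooth12.normalDomain_of_ringEquiv (RingEquiv.ofBijective ψ ⟨hinj, hsur⟩) (hS Q)

variable {k k' : Type u} [Field k] [Field k'] [Algebra k k'] [Algebra.IsSeparable k k']

/-- For separable `k'/k`, `x ⊗ 1 = 1 ⊗ x` holds locally along the kernel of `L ⊗_k A → L ⊗_{k'} A`. -/
theorem map_tmul_eq_of_ker_le {L A : Type u} [CommRing L] [Algebra k L] [Algebra k' L] [IsScalarTower k k' L]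
    [CommRing A] [Algebra k A] [Algebra k' A] [IsScalarTower k k' A] {T : Type u} [CommRing T]
    (π : L ⊗[k] A →+* T) (hπ : ∀ c : k', π (algebraMap k' L c ⊗ₜ 1) = π (1 ⊗ₜ algebraMap k' A c))
    (Q : Ideal (L ⊗[k] A)) [Q.IsPrime] (hQ : RingHom.ker π ≤ Q) (c : k') :
    algebraMap (L ⊗[k] A) (Localization.AtPrime Q) (algebraMap k' L c ⊗ₜ 1) =
      algebraMap (L ⊗[k] A) (Localization.AtPrime Q) (1 ⊗ₜ algebraMap k' A c) := by
  let g := minpoly k c
  have hg : g.derivative.aeval c ≠ 0 :=
    (Algebra.IsSeparable.isSeparable k c).aeval_derivative_ne_zero (minpoly.aeval k c)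
  let ιA : k' →ₐ[k] L ⊗[k] A :=
    (Algebra.TensorProduct.includeRight : A →ₐ[k] L ⊗[k] A).comp (IsScalarTower.toAlgHom k k' A)
  let ιL : k' →ₐ[k] L ⊗[k] A :=
    (Algebra.TensorProduct.includeLeft : L →ₐ[k] L ⊗[k] A).comp (IsScalarTower.toAlgHom k k' L)
  let u := ιL c
  let v := ιA c
  let G := g.map (algebraMap k (L ⊗[k] A))
  obtain ⟨h, hh⟩ : Polynomial.X - Polynomial.C v ∣ G := by
    rw [Polynomial.dvd_iff_isRoot, Polynomial.IsRoot.def, Polynomial.eval_map, ← Polynomial.aeval_def,
      Polynomial.aeval_algHom_apply, minpoly.aeval, map_zero]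
  have hu : G.eval u = 0 := by
    rw [Polynomial.eval_map, ← Polynomial.aeval_def, Polynomial.aeval_algHom_apply, minpoly.aeval, map_zero]
  have h0 : h.eval u * (u - v) = 0 := by
    rw [hh, Polynomial.eval_mul, Polynomial.eval_sub, Polynomial.eval_X, Polynomial.eval_C] at hu
    rw [mul_comm, hu]
  have hnot : h.eval u ∉ Q := fun hmem => by
    have e1 : G.derivative.eval v = h.eval v := by
      rw [hh, Polynomial.derivative_mul]
      simp
    have e2 : h.eval u - h.eval v ∈ Q := hQ (by
      rw [RingHom.mem_ker, map_sub, ← Polynomial.eval₂_at_apply, ← Polynomial.eval₂_at_apply,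
        show π u = π v from hπ c, sub_self])
    have e3 : G.derivative.eval v = ιA (g.derivative.aeval c) := by
      rw [Polynomial.derivative_map, Polynomial.eval_map, ← Polynomial.aeval_def, Polynomial.aeval_algHom_apply]
    have hunit : IsUnit (h.eval v) := by
      rw [← e1, e3]
      exact (hg.isUnit).map ιA
    exact Ideal.IsPrime.ne_top inferInstance
      (Ideal.eq_top_of_isUnit_mem Q (by simpa using sub_mem hmem e2) hunit)
  have h1 : algebraMap _ (Localization.AtPrime Q) (h.eval u) * algebraMap _ (Localization.AtPrime Q) (u - v) = 0 := by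
    rw [← map_mul, h0, map_zero]
  have h2 := (IsLocalization.map_units (M := Q.primeCompl) (Localization.AtPrime Q) ⟨_, hnot⟩).mul_right_eq_zero.1 h1
  rw [map_sub] at h2
  exact sub_eq_zero.1 h2

/-- Normality passes from `L ⊗_k A` to `L ⊗_{k'} A`. -/
theorem isNormalRing_tensor_change (L A : Type u) [CommRing L] [Algebra k L] [Algebra k' L] [IsScalarTower k k' L]
    [CommRing A] [Algebra k A] [Algebra k' A] [IsScalarTower k k' A] (h : EGA4.IsNormalRing (L ⊗[k] A)) :
    EGA4.IsNormalRing (L ⊗[k'] A) := by
  let π : L ⊗[k] A →ₐ[k] L ⊗[k'] A := Algebra.TensorProduct.lift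
    ((Algebra.TensorProduct.includeLeft : L →ₐ[k'] L ⊗[k'] A).restrictScalars k)
    ((Algebra.TensorProduct.includeRight : A →ₐ[k'] L ⊗[k'] A).restrictScalars k) (fun _ _ => Commute.all _ _)
  have hπ : ∀ l a, π (l ⊗ₜ[k] a) = l ⊗ₜ[k'] a := fun l a => by simp [π]
  have hsur : Function.Surjective π := fun x => by
    induction x with
    | zero => exact ⟨0, map_zero _⟩
    | tmul l a => exact ⟨l ⊗ₜ a, hπ l a⟩
    | add x y hx hy =>
      obtain ⟨a, rfl⟩ := hx; obtain ⟨b, rfl⟩ := hy
      exact ⟨a + b, map_add π a b⟩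
  refine isNormalRing_of_surjective π.toRingHom hsur h fun Q _ hQ z hz => ?_
  let R := Localization.AtPrime Q
  let f := algebraMap (L ⊗[k] A) R
  have key : ∀ c : k', f (algebraMap k' L c ⊗ₜ 1) = f (1 ⊗ₜ algebraMap k' A c) := fun c =>
    map_tmul_eq_of_ker_le π.toRingHom (fun c => by
      change π _ = π _
      rw [hπ, hπ, Algebra.algebraMap_eq_smul_one, Algebra.algebraMap_eq_smul_one, TensorProduct.smul_tmul]) Q hQ c
  let ψ : L ⊗[k'] A →+ R := TensorProduct.liftAddHom
    (AddMonoidHom.mk' (fun l => AddMonoidHom.mk' (fun a => f (l ⊗ₜ a)) fun a b => by rw [tmul_add, map_add])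
      fun l m => by ext a; simp [add_tmul])
    fun c l a => by
      change f ((c • l) ⊗ₜ a) = f (l ⊗ₜ (c • a))
      rw [show (c • l) ⊗ₜ[k] a = (algebraMap k' L c ⊗ₜ[k] (1 : A)) * (l ⊗ₜ[k] a) by
          rw [Algebra.TensorProduct.tmul_mul_tmul, one_mul, ← Algebra.smul_def],
        show l ⊗ₜ[k] (c • a) = ((1 : L) ⊗ₜ[k] algebraMap k' A c) * (l ⊗ₜ[k] a) by
          rw [Algebra.TensorProduct.tmul_mul_tmul, one_mul, ← Algebra.smul_def],
        map_mul, map_mul, key c]
  have hψ : ∀ z, ψ (π z) = f z := fun z => by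
    induction z with
    | zero => simp
    | tmul l a => rw [hπ]; rfl
    | add x y hx hy => simp only [map_add, hx, hy]
  change f z = 0
  rw [← hψ z, show π z = 0 from hz, map_zero]

theorem geomReduced_of_isSeparable : Algebra.IsGeometricallyReduced k k' := by
  refine Algebra.IsGeometricallyReduced.of_forall_fg fun B hB => ?_
  haveI : Algebra.FiniteType k B := B.fg_iff_finiteType.1 hB
  haveI : Algebra.IsIntegral k B := ⟨fun x => (isIntegral_algHom_iff B.val Subtype.val_injective).1
    (Algebra.IsIntegral.isIntegral _)⟩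
  haveI : Module.Finite k B := Algebra.IsIntegral.finite
  letI : Field B := (B.isField_of_algebraic).toField
  haveI : Algebra.IsSeparable k B := Algebra.IsSeparable.of_algHom k k' B.val
  haveI : Algebra.FormallyUnramified k B := Algebra.FormallyUnramified.of_isSeparable k B
  rw [Algebra.isGeometricallyReduced_field_iff]
  exact Algebra.FormallyUnramified.isReduced_of_field (AlgebraicClosure k) _

/-- Geometric normality is insensitive to separable algebraic changes of the base field. -/
theorem isGeomNormal_iff_of_isSeparable (A : Type u) [CommRing A] [Algebra k' A] [Algebra k A]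
    [IsScalarTower k k' A] : EGA4.IsGeomNormal k A ↔ EGA4.IsGeomNormal k' A := by
  refine ⟨fun h L _ _ hL => ?_, fun h L _ _ hL => ?_⟩
  · letI : Algebra k L := ((algebraMap k' L).comp (algebraMap k k')).toAlgebra
    haveI : IsScalarTower k k' L := .of_algebraMap_eq fun _ => rfl
    haveI : Algebra.IsAlgebraic k L := Algebra.IsAlgebraic.trans k k' L
    exact isNormalRing_tensor_change L A (isNormalRing_tensor_algebraic L A h)
  · haveI := geomReduced_of_isSeparable (k := k) (k' := k')
    let R := k' ⊗[k] L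
    haveI : IsReduced R := isReduced_of_injective (Algebra.TensorProduct.comm k k' L) (AlgEquiv.injective _)
    haveI : IsArtinianRing R := IsArtinianRing.of_finite k' R
    refine FlatDepth.isNormalRing_of_ringEquiv ((Algebra.TensorProduct.comm k' R A).toRingEquiv.trans
      ((Algebra.TensorProduct.cancelBaseChange k k' A A L).toRingEquiv.trans
        (Algebra.TensorProduct.comm k A L).toRingEquiv))
      (isNormalRing_tensor_of_local k' A R fun q _ => ?_)
    let Rq := Localization.AtPrime q
    haveI : IsReduced Rq := isReduced_localizationPreserves q.primeCompl _ ‹_›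
    letI : Field Rq := (IsArtinianRing.isField_of_isReduced_of_isLocalRing Rq).toField
    exact h Rq (Module.Finite.of_surjective (IsScalarTower.toAlgHom k' R Rq).toLinearMap
      (IsArtinianRing.localization_surjective q.primeCompl Rq))

end Groth.Agent.NormalBC6
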