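import Groth.Agent.Lib.NormalBC6.Closure
import Groth.Agent.Lib.FlatDepth.RegNormal
import Mathlib

/-! # Integral closure and reducedness along normal homomorphisms -/

set_option autoImplicit false
set_option linter.style.haveILetI false
universe u

open TensorProduct Polynomial

namespace Groth.Agent.NormalBC6

variable {A A' : Type u} [CommRing A] [CommRing A'] [Algebra A A']

theorem reducedFibres_of_isNormalHom (h : EGA4.IsNormalHom A A') (p : Ideal A) [p.IsPrime] :
    Algebra.IsGeometricallyReduced p.ResidueField (p.Fiber A') :=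
  FlatDepth.geomReduced_of_geomNormal (h.2 p)

/-- Integrality over a subring of `A' ⊗ C` contained in the image of `B ⊗ A'`. -/
theorem intT_of_isIntegral {C : Type u} [CommRing C] [Algebra A C] (B : Subalgebra A C) {R : Type u} [CommRing R]
    [Algebra R (A' ⊗[A] C)]
    (hR : ∀ r : R, Algebra.TensorProduct.comm A A' C (algebraMap R _ r) ∈
      (Algebra.TensorProduct.map B.val (AlgHom.id A A')).range)
    {x : A' ⊗[A] C} (hx : IsIntegral R x) : IntT B (Algebra.TensorProduct.comm A A' C x) := by
  obtain ⟨p, hp, hev⟩ := hx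
  let σ : A' ⊗[A] C →+* C ⊗[A] A' := (Algebra.TensorProduct.comm A A' C).toRingEquiv.toRingHom
  rcases subsingleton_or_nontrivial (C ⊗[A] A') with hss | hnt
  · exact ⟨1, Polynomial.monic_one, Subsingleton.elim _ _⟩
  have hlift : p.map (σ.comp (algebraMap R (A' ⊗[A] C))) ∈
      Polynomial.lifts (Algebra.TensorProduct.map B.val (AlgHom.id A A')).toRingHom := by
    rw [Polynomial.lifts_iff_coeff_lifts]
    intro i
    rw [Polynomial.coeff_map]
    exact hR _
  obtain ⟨q, hq, -, hqm⟩ := Polynomial.lifts_and_degree_eq_and_monic hlift (hp.map _)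
  refine ⟨q, hqm, ?_⟩
  rw [← Polynomial.eval_map, hq, Polynomial.eval_map]
  show Polynomial.eval₂ (σ.comp _) (σ x) p = 0
  rw [← Polynomial.hom_eval₂, hev, map_zero]

variable [IsNoetherianRing A] [Module.Flat A A']
  (hA' : ∀ (p : Ideal A) [p.IsPrime], Algebra.IsGeometricallyReduced p.ResidueField (p.Fiber A'))

include hA' in
theorem integralClosure_map {B C : Type u} [CommRing B] [CommRing C] [Algebra A B] [Algebra A C] [Algebra B C]
    [IsScalarTower A B C] :
    (integralClosure
          ↥(Algebra.TensorProduct.map (AlgHom.id A' A') (IsScalarTower.toAlgHom A B C)).range (A' ⊗[A] C) :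
        Set (A' ⊗[A] C)) =
      Set.range (Algebra.TensorProduct.map (AlgHom.id A' A')
        ((integralClosure B C).val.restrictScalars A)) := by
  let ι := Algebra.TensorProduct.map (AlgHom.id A' A') (IsScalarTower.toAlgHom A B C)
  let f := Algebra.TensorProduct.map (AlgHom.id A' A') ((integralClosure B C).val.restrictScalars A)
  refine Set.Subset.antisymm (fun x hx => ?_) ?_
  · let B' : Subalgebra A C := (IsScalarTower.toAlgHom A B C).range
    have h1 : IntT B' (Algebra.TensorProduct.comm A A' C x) := by
      refine intT_of_isIntegral B' (R := ι.range) (fun r => ?_) (hx : IsIntegral ι.range x)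
      obtain ⟨w, hw⟩ := r.2
      show Algebra.TensorProduct.comm A A' C r.1 ∈ _
      rw [← hw]
      clear hw
      induction w with
      | zero => rw [map_zero, map_zero]; exact zero_mem _
      | tmul a b => exact ⟨(⟨algebraMap B C b, b, rfl⟩ : B') ⊗ₜ a, rfl⟩
      | add y z hy hz => rw [map_add, map_add]; exact add_mem hy hz
    obtain ⟨v, hv⟩ := mem_range_of_intT hA' B' _ h1
    have hle : ∀ y ∈ iclSub B', y ∈ integralClosure B C := by
      rintro y ⟨p, hp, hev⟩
      let r : B →+* B' := (IsScalarTower.toAlgHom A B C).rangeRestrict.toRingHom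
      have hr : Function.Surjective r := (IsScalarTower.toAlgHom A B C).rangeRestrict_surjective
      rcases subsingleton_or_nontrivial B' with hss | hnt
      · refine ⟨1, Polynomial.monic_one, ?_⟩
        have : (1 : C) = 0 := congrArg Subtype.val (Subsingleton.elim (1 : B') 0)
        rw [Polynomial.eval₂_one]; exact this
      obtain ⟨q, hq, -, hqm⟩ := Polynomial.lifts_and_degree_eq_and_monic
        ((Polynomial.lifts_iff_coeff_lifts p).2 fun n => hr _ : p ∈ Polynomial.lifts r) hp
      refine ⟨q, hqm, ?_⟩
      rw [← hq, Polynomial.eval₂_map] at hev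
      exact hev
    have hx' : x = (Algebra.TensorProduct.comm A A' C).symm ((iclSub B').subtype.rTensor A' v) := by
      rw [hv, AlgEquiv.symm_apply_apply]
    rw [hx']
    clear hx' hv
    induction v with
    | zero => rw [map_zero, map_zero]; exact ⟨0, map_zero f⟩
    | tmul y a => exact ⟨a ⊗ₜ (⟨y.1, hle y.1 y.2⟩ : integralClosure B C), rfl⟩
    | add y z hy hz =>
      obtain ⟨y', hy'⟩ := hy
      obtain ⟨z', hz'⟩ := hz
      exact ⟨y' + z', by rw [map_add f, hy', hz', map_add, map_add]⟩
  · rintro _ ⟨w, rfl⟩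
    show f w ∈ integralClosure ι.range (A' ⊗[A] C)
    induction w with
    | zero => rw [map_zero]; exact zero_mem _
    | add y z hy hz => rw [map_add]; exact add_mem hy hz
    | tmul a d =>
      rw [show f (a ⊗ₜ[A] d) = (a ⊗ₜ[A] (1 : C)) * ((1 : A') ⊗ₜ[A] (d : C)) by
        rw [Algebra.TensorProduct.tmul_mul_tmul, mul_one, one_mul]; rfl]
      refine mul_mem (Subalgebra.algebraMap_mem _ (⟨_, a ⊗ₜ[A] (1 : B), by
        show a ⊗ₜ[A] algebraMap B C 1 = a ⊗ₜ[A] (1 : C)
        rw [map_one]⟩ : ι.range)) ?_
      obtain ⟨p, hp, hev⟩ := d.2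
      let r : B →+* ι.range :=
        (ι.toRingHom.comp (Algebra.TensorProduct.includeRight : B →ₐ[A] A' ⊗[A] B).toRingHom).codRestrict
          ι.range.toSubring fun b => ⟨(1 : A') ⊗ₜ[A] b, rfl⟩
      refine ⟨p.map r, hp.map _, ?_⟩
      rw [Polynomial.eval₂_map]
      have hcomp : (algebraMap ι.range (A' ⊗[A] C)).comp r =
          (Algebra.TensorProduct.includeRight : C →ₐ[A] A' ⊗[A] C).toRingHom.comp (algebraMap B C) :=
        RingHom.ext fun b => rfl
      rw [hcomp]
      show Polynomial.eval₂ _ ((Algebra.TensorProduct.includeRight : C →ₐ[A] A' ⊗[A] C).toRingHom (d : C)) p = 0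
      rw [← Polynomial.hom_eval₂, hev, map_zero]

include hA' in
theorem integralClosure_baseChange (B : Type u) [CommRing B] [Algebra A B] :
    integralClosure A' (A' ⊗[A] B) =
      Algebra.adjoin A' ((Algebra.TensorProduct.includeRight : B →ₐ[A] A' ⊗[A] B) '' (integralClosure A B)) := by
  refine le_antisymm (fun x hx => ?_) (Algebra.adjoin_le ?_)
  · have h1 : IntT (⊥ : Subalgebra A B) (Algebra.TensorProduct.comm A A' B x) := by
      refine intT_of_isIntegral ⊥ (R := A') (fun r => ?_) (hx : IsIntegral A' x)
      exact ⟨(1 : (⊥ : Subalgebra A B)) ⊗ₜ r, rfl⟩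
    obtain ⟨v, hv⟩ := mem_range_of_intT hA' ⊥ _ h1
    have hx' : x = (Algebra.TensorProduct.comm A A' B).symm ((iclSub (⊥ : Subalgebra A B)).subtype.rTensor A' v) := by
      rw [hv, AlgEquiv.symm_apply_apply]
    rw [hx']
    clear hx' hv
    induction v with
    | zero => rw [map_zero, map_zero]; exact zero_mem _
    | add y z hy hz => rw [map_add, map_add]; exact add_mem hy hz
    | tmul y a =>
      have hy : (y : B) ∈ integralClosure A B := by
        haveI : Algebra.IsIntegral A (⊥ : Subalgebra A B) :=
          ⟨fun z => by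
            obtain ⟨a, ha⟩ := Algebra.mem_bot.1 z.2
            rw [show z = algebraMap A (⊥ : Subalgebra A B) a from Subtype.ext ha.symm]
            exact isIntegral_algebraMap⟩
        exact isIntegral_trans (A := (⊥ : Subalgebra A B)) (y : B) y.2
      have h2 : (Algebra.TensorProduct.comm A A' B).symm ((iclSub (⊥ : Subalgebra A B)).subtype.rTensor A' (y ⊗ₜ a)) =
          a • (Algebra.TensorProduct.includeRight : B →ₐ[A] A' ⊗[A] B) (y : B) := by
        show a ⊗ₜ[A] (y : B) = a • ((1 : A') ⊗ₜ[A] (y : B))
        rw [TensorProduct.smul_tmul', smul_eq_mul, mul_one]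
      rw [h2]
      exact Subalgebra.smul_mem _ (Algebra.subset_adjoin (Set.mem_image_of_mem _ hy)) a
  · rintro _ ⟨b, hb, rfl⟩
    obtain ⟨p, hp, hev⟩ := (hb : IsIntegral A b)
    refine ⟨p.map (algebraMap A A'), hp.map _, ?_⟩
    rw [Polynomial.eval₂_map, ← IsScalarTower.algebraMap_eq,
      ← (Algebra.TensorProduct.includeRight : B →ₐ[A] A' ⊗[A] B).comp_algebraMap]
    show Polynomial.eval₂ _ ((Algebra.TensorProduct.includeRight : B →ₐ[A] A' ⊗[A] B).toRingHom b) p = 0
    exact (Polynomial.hom_eval₂ _ _ _ _).symm.trans (by rw [hev, map_zero])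

include hA' in
theorem isReduced_of_noetherian (B : Type u) [CommRing B] [IsNoetherianRing B] [Algebra A B] [IsReduced B] :
    IsReduced (B ⊗[A] A') := by
  haveI : Finite (minimalPrimes B) := (minimalPrimes.finite_of_isNoetherianRing B).to_subtype
  haveI : ∀ P : minimalPrimes B, (P.1 : Ideal B).IsPrime := fun P => P.2.1.1
  let K : minimalPrimes B → Type u := fun P => FractionRing (B ⧸ P.1)
  let h : ∀ P : minimalPrimes B, B →ₐ[A] K P := fun P =>
    (IsScalarTower.toAlgHom A (B ⧸ P.1) (K P)).comp (Ideal.Quotient.mkₐ A P.1)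
  refine ⟨fun x hx => ?_⟩
  have hmem : x ∈ LinearMap.range ((⊥ : Submodule A B).subtype.rTensor A') := by
    refine mem_range_of_forall (fun P => (h P).toLinearMap) ⊥ (fun y hy => ?_) x fun P => ?_
    · have h1 : y ∈ nilradical B := by
        rw [nilradical, ← Ideal.sInf_minimalPrimes, Submodule.mem_sInf]
        intro P hP
        refine Ideal.Quotient.eq_zero_iff_mem.1 (IsFractionRing.injective (B ⧸ P) (K ⟨P, hP⟩) ?_)
        rw [map_zero]
        exact hy ⟨P, hP⟩
      rw [nilradical_eq_zero B] at h1
      exact h1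
    · let L := K P
      let p := RingHom.ker (algebraMap A L)
      haveI : p.IsPrime := RingHom.ker_isPrime _
      have hu : p.primeCompl ≤ (IsUnit.submonoid L).comap (algebraMap A L) := fun a ha =>
        isUnit_iff_ne_zero.2 fun h => ha h
      letI : Algebra p.ResidueField L := (Ideal.ResidueField.lift p (algebraMap A L) le_rfl hu).toAlgebra
      haveI : IsScalarTower A p.ResidueField L :=
        .of_algebraMap_eq fun a => (Ideal.ResidueField.lift_algebraMap p (algebraMap A L) le_rfl hu a).symm
      haveI := hA' p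
      haveI := GeomRed21.isReduced_tensor_field (k := p.ResidueField) (p.Fiber A') L
      haveI : IsReduced (L ⊗[A] A') := isReduced_of_injective
        (Algebra.TensorProduct.cancelBaseChange A p.ResidueField L L A').toRingEquiv.symm (RingEquiv.injective _)
      exact (hx.map (Algebra.TensorProduct.map (h P) (AlgHom.id A A'))).eq_zero
  obtain ⟨w, rfl⟩ := hmem
  rw [show (⊥ : Submodule A B).subtype = 0 from LinearMap.ext fun y => (Submodule.mem_bot A).1 y.2,
    LinearMap.rTensor_zero, LinearMap.zero_apply]

include hA' in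
theorem isReduced_baseChange (B : Type u) [CommRing B] [Algebra A B] [IsReduced B] : IsReduced (A' ⊗[A] B) := by
  refine IsReduced.tensorProduct_of_flat_of_forall_fg fun B₀ hB₀ => ?_
  haveI : Algebra.FiniteType A B₀ := (Subalgebra.fg_iff_finiteType B₀).1 hB₀
  haveI : IsNoetherianRing B₀ := Algebra.FiniteType.isNoetherianRing A B₀
  haveI : IsReduced B₀ := isReduced_of_injective B₀.val Subtype.val_injective
  haveI := isReduced_of_noetherian hA' B₀
  exact isReduced_of_injective (Algebra.TensorProduct.comm A A' B₀) (AlgEquiv.injective _)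

end Groth.Agent.NormalBC6
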