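import Groth.Agent.Lib.NormalBC6.Detect
import Groth.Agent.Lib.GeomRed21.Algebra
import Mathlib

/-! # Integral closures commute with flat base change with geometrically reduced fibres -/

set_option autoImplicit false
set_option linter.style.haveILetI false
universe u

open TensorProduct Polynomial

namespace Groth.Agent.NormalBC6

variable {A A' : Type u} [CommRing A] [CommRing A'] [Algebra A A']

/-- Elements integral over a subalgebra, as a submodule. -/
def iclSub {C : Type u} [CommRing C] [Algebra A C] (B : Subalgebra A C) : Submodule A C :=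
  Subalgebra.toSubmodule ((integralClosure B C).restrictScalars A)

theorem mem_iclSub {C : Type u} [CommRing C] [Algebra A C] {B : Subalgebra A C} {y : C} :
    y ∈ iclSub B ↔ IsIntegral B y := Iff.rfl

/-- `x` is integral over the image of `B ⊗ A'`. -/
def IntT {C : Type u} [CommRing C] [Algebra A C] (B : Subalgebra A C) (x : C ⊗[A] A') : Prop :=
  (Algebra.TensorProduct.map B.val (AlgHom.id A A')).toRingHom.IsIntegralElem x

theorem IntT.map {C C' : Type u} [CommRing C] [CommRing C'] [Algebra A C] [Algebra A C'] (h : C →ₐ[A] C')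
    {B : Subalgebra A C} {B' : Subalgebra A C'} (hB : ∀ b ∈ B, h b ∈ B') {x : C ⊗[A] A'} (hx : IntT B x) :
    IntT B' (Algebra.TensorProduct.map h (AlgHom.id A A') x) := by
  obtain ⟨p, hp, hev⟩ := hx
  let hr : B →ₐ[A] B' := (h.comp B.val).codRestrict B' fun b => hB b.1 b.2
  refine ⟨p.map (Algebra.TensorProduct.map hr (AlgHom.id A A')).toRingHom, hp.map _, ?_⟩
  rw [Polynomial.eval₂_map]
  have hcomp : ((Algebra.TensorProduct.map B'.val (AlgHom.id A A')).toRingHom).comp
      (Algebra.TensorProduct.map hr (AlgHom.id A A')).toRingHom =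
      (Algebra.TensorProduct.map h (AlgHom.id A A')).toRingHom.comp
        (Algebra.TensorProduct.map B.val (AlgHom.id A A')).toRingHom := by
    have h1 : (Algebra.TensorProduct.map B'.val (AlgHom.id A A')).comp (Algebra.TensorProduct.map hr (AlgHom.id A A')) =
        (Algebra.TensorProduct.map h (AlgHom.id A A')).comp (Algebra.TensorProduct.map B.val (AlgHom.id A A')) :=
      Algebra.TensorProduct.ext' fun b a => rfl
    exact congrArg AlgHom.toRingHom h1
  rw [hcomp]
  show Polynomial.eval₂ _ ((Algebra.TensorProduct.map h (AlgHom.id A A')).toRingHom x) p = 0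
  rw [← Polynomial.hom_eval₂, hev, map_zero]

/-- Tensors involve finitely many elements. -/
theorem exists_finset_tensor {C : Type u} [CommRing C] [Algebra A C] (x : C ⊗[A] A') :
    ∃ s : Finset C, ∀ S : Submodule A C, (s : Set C) ⊆ S →
      x ∈ LinearMap.range (S.subtype.rTensor A') := by
  classical
  induction x with
  | zero => exact ⟨∅, fun S _ => zero_mem _⟩
  | tmul c a => exact ⟨{c}, fun S hS => ⟨(⟨c, hS (by simp)⟩ : S) ⊗ₜ a, rfl⟩⟩
  | add x y hx hy =>
    obtain ⟨s, hs⟩ := hx
    obtain ⟨t, ht⟩ := hy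
    exact ⟨s ∪ t, fun S hS => add_mem (hs S (fun a ha => hS (Finset.mem_union_left _ ha)))
      (ht S (fun a ha => hS (Finset.mem_union_right _ ha)))⟩

/-- The coefficients in an equation of integrality involve finitely many elements of `B`. -/
theorem IntT.exists_finset {C : Type u} [CommRing C] [Algebra A C] {B : Subalgebra A C} {x : C ⊗[A] A'}
    (hx : IntT B x) :
    ∃ t : Finset C, (t : Set C) ⊆ B ∧ ∀ B₀ : Subalgebra A C, (t : Set C) ⊆ B₀ → IntT B₀ x := by
  classical
  obtain ⟨p, hp, hev⟩ := hx
  let g := Algebra.TensorProduct.map B.val (AlgHom.id A A')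
  choose s hs using fun i => exists_finset_tensor (p.coeff i)
  let t : Finset C := ((Finset.range (p.natDegree + 1)).biUnion s).image B.val
  refine ⟨t, fun a ha => by obtain ⟨b, -, rfl⟩ := Finset.mem_image.1 ha; exact b.2, fun B₀ hB₀ => ?_⟩
  rcases subsingleton_or_nontrivial (C ⊗[A] A') with hss | hnt
  · exact ⟨1, Polynomial.monic_one, Subsingleton.elim _ _⟩
  let g₀ := Algebra.TensorProduct.map B₀.val (AlgHom.id A A')
  have hlift : p.map g.toRingHom ∈ Polynomial.lifts g₀.toRingHom := by
    rw [Polynomial.lifts_iff_coeff_lifts]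
    intro i
    rw [Polynomial.coeff_map]
    by_cases hi : i ≤ p.natDegree
    · obtain ⟨w, hw⟩ := hs i (Subalgebra.toSubmodule (B₀.comap B.val)) fun b hb => hB₀ (Finset.mem_coe.2 (Finset.mem_image_of_mem _
        (Finset.mem_biUnion.2 ⟨i, Finset.mem_range.2 (Nat.lt_succ_of_le hi), hb⟩)))
      let r : (B₀.comap B.val) →ₐ[A] B₀ := (B.val.comp (B₀.comap B.val).val).codRestrict B₀ fun b => b.2
      refine ⟨Algebra.TensorProduct.map r (AlgHom.id A A') w, ?_⟩
      rw [← hw]
      show _ = g ((Algebra.TensorProduct.map (B₀.comap B.val).val (AlgHom.id A A')) w)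
      have h1 : g₀.comp (Algebra.TensorProduct.map r (AlgHom.id A A')) =
          g.comp (Algebra.TensorProduct.map (B₀.comap B.val).val (AlgHom.id A A')) :=
        Algebra.TensorProduct.ext' fun b a => rfl
      exact congrArg (fun φ => φ w) h1
    · exact ⟨0, by rw [Polynomial.coeff_eq_zero_of_natDegree_lt (not_le.1 hi), map_zero, map_zero]⟩
  obtain ⟨q, hq, -, hqm⟩ := Polynomial.lifts_and_degree_eq_and_monic hlift (hp.map _)
  refine ⟨q, hqm, ?_⟩
  rw [← Polynomial.eval_map]
  show (Polynomial.map g₀.toRingHom q).eval x = 0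
  rw [hq, Polynomial.eval_map]
  exact hev

/-- A tensor killed by finitely many maps lies in the tensor with the intersection of their kernels. -/
theorem mem_range_of_forall [Module.Flat A A'] {ι : Type u} [Finite ι] {M : Type u} [AddCommGroup M] [Module A M]
    {X : ι → Type u} [∀ i, AddCommGroup (X i)] [∀ i, Module A (X i)] (f : ∀ i, M →ₗ[A] X i) (N : Submodule A M)
    (hN : ∀ y, (∀ i, f i y = 0) → y ∈ N) (x : M ⊗[A] A') (hx : ∀ i, (f i).rTensor A' x = 0) :
    x ∈ LinearMap.range (N.subtype.rTensor A') := by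
  classical
  haveI := Fintype.ofFinite ι
  let K := LinearMap.ker (LinearMap.pi f)
  have hinj : Function.Injective (K.liftQ (LinearMap.pi f) le_rfl) :=
    LinearMap.ker_eq_bot.1 (Submodule.ker_liftQ_eq_bot' _ _ rfl)
  have h0 : (LinearMap.pi f).rTensor A' x = 0 := by
    refine (TensorProduct.comm A _ A').injective ((TensorProduct.piRight A A A' X).injective ?_)
    rw [map_zero, map_zero]
    funext i
    have hgen : ∀ y : M ⊗[A] A', TensorProduct.piRight A A A' X (TensorProduct.comm A _ A' ((LinearMap.pi f).rTensor A' y)) i =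
        TensorProduct.comm A (X i) A' ((f i).rTensor A' y) := by
      intro y
      induction y with
      | zero => simp
      | tmul m a => simp [TensorProduct.piRightHom_tmul]
      | add y z hy hz => simp only [map_add, Pi.add_apply, hy, hz]
    rw [hgen, hx i, map_zero, Pi.zero_apply]
  have h2 : K.mkQ.rTensor A' x = 0 := by
    refine Module.Flat.rTensor_preserves_injective_linearMap (M := A') _ hinj ?_
    rw [map_zero, ← LinearMap.rTensor_comp_apply, Submodule.liftQ_mkQ, h0]
  have h3 : x ∈ LinearMap.range (K.subtype.rTensor A') := by rw [← rTensor_mkQ]; exact h2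
  have hKN : K ≤ N := fun y hy => hN y fun i => congrFun (LinearMap.mem_ker.1 hy) i
  obtain ⟨w, rfl⟩ := h3
  exact ⟨(Submodule.inclusion hKN).rTensor A' w, by rw [← LinearMap.rTensor_comp_apply]; rfl⟩

theorem range_le_ker {M X : Type u} [AddCommGroup M] [Module A M] [AddCommGroup X] [Module A X] (N : Submodule A M)
    (f : M →ₗ[A] X) (h : ∀ y ∈ N, f y = 0) {x : M ⊗[A] A'} (hx : x ∈ LinearMap.range (N.subtype.rTensor A')) :
    f.rTensor A' x = 0 := by
  obtain ⟨w, rfl⟩ := hx
  rw [← LinearMap.rTensor_comp_apply, show f.comp N.subtype = 0 from LinearMap.ext fun y => h y y.2,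
    LinearMap.rTensor_zero, LinearMap.zero_apply]

theorem mem_range_rTensor_iff {C : Type u} [CommRing C] [Algebra A C] (S : Subalgebra A C) {x : C ⊗[A] A'} :
    x ∈ LinearMap.range ((Subalgebra.toSubmodule S).subtype.rTensor A') ↔
      x ∈ (Algebra.TensorProduct.map S.val (AlgHom.id A A')).range := Iff.rfl

variable [Module.Flat A A']

/-- The case of a field, with the denominators under control. -/
theorem mem_range_of_denom [IsNoetherianRing A]
    (hA' : ∀ (p : Ideal A) [p.IsPrime], Algebra.IsGeometricallyReduced p.ResidueField (p.Fiber A'))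
    {K : Type u} [Field K] [Algebra A K] (D : Subalgebra A K) (hD : D.FG) (c : D) (hc : c ≠ 0)
    (z : D ⊗[A] A') (x : K ⊗[A] A')
    (hxz : x * ((c : K) ⊗ₜ[A] (1 : A')) = Algebra.TensorProduct.map D.val (AlgHom.id A A') z)
    (hx : IntT D x) : x ∈ LinearMap.range ((iclSub D).subtype.rTensor A') := by
  haveI : Algebra.FiniteType A D := (Subalgebra.fg_iff_finiteType D).1 hD
  haveI : IsNoetherianRing D := Algebra.FiniteType.isNoetherianRing A D
  let g := Algebra.TensorProduct.map D.val (AlgHom.id A A')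
  have hginj : Function.Injective g :=
    Module.Flat.rTensor_preserves_injective_linearMap (M := A') D.val.toLinearMap Subtype.val_injective
  letI : Algebra (D ⊗[A] A') (K ⊗[A] A') := g.toRingHom.toAlgebra
  have hint : IntDiv (algebraMap D (D ⊗[A] A') c) z := by
    refine IntDiv.of_isIntegral (F := K ⊗[A] A') hginj (x := x) hx ?_
    exact hxz ▸ rfl
  have hred : ∀ (Q : Ideal D) [Q.IsPrime] (L : Type u) [Field L] [Algebra (Localization.AtPrime Q) L] [Algebra D L]
      [IsScalarTower D (Localization.AtPrime Q) L], Module.Finite (Localization.AtPrime Q) L →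
        IsReduced (L ⊗[D] (D ⊗[A] A')) := by
    intro Q _ L _ _ _ _ _
    letI : Algebra A L := ((algebraMap D L).comp (algebraMap A D)).toAlgebra
    haveI : IsScalarTower A D L := .of_algebraMap_eq fun _ => rfl
    let p := RingHom.ker (algebraMap A L)
    haveI : p.IsPrime := RingHom.ker_isPrime _
    have hu : p.primeCompl ≤ (IsUnit.submonoid L).comap (algebraMap A L) := fun a ha =>
      isUnit_iff_ne_zero.2 fun h => ha h
    letI : Algebra p.ResidueField L := (Ideal.ResidueField.lift p (algebraMap A L) le_rfl hu).toAlgebra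
    haveI : IsScalarTower A p.ResidueField L :=
      .of_algebraMap_eq fun a => (Ideal.ResidueField.lift_algebraMap p (algebraMap A L) le_rfl hu a).symm
    haveI := hA' p
    haveI := GeomRed21.isReduced_tensor_field (k := p.ResidueField) (p.Fiber A') L
    let e : L ⊗[D] (D ⊗[A] A') ≃+* L ⊗[p.ResidueField] p.Fiber A' :=
      (Algebra.TensorProduct.cancelBaseChange A D L L A').toRingEquiv.trans
        (Algebra.TensorProduct.cancelBaseChange A p.ResidueField L L A').toRingEquiv.symm
    exact isReduced_of_injective e e.injective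
  have hz := mem_map_icIdeal D c hc (D ⊗[A] A') hred z hint
  let N := (integralClosure D K).restrictScalars A
  let RN := (Algebra.TensorProduct.map N.val (AlgHom.id A A')).range
  have hc' : (c : K) ≠ 0 := fun h => hc (Subtype.ext h)
  have key : g z * ((c : K)⁻¹ ⊗ₜ[A] (1 : A')) ∈ RN := by
    rw [Ideal.map] at hz
    clear hxz hint
    induction hz using Submodule.span_induction with
    | mem w hw =>
      obtain ⟨a, ha, rfl⟩ := hw
      have h1 : IsIntegral D ((a : K) * (c : K)⁻¹) :=
        ((mem_icIdeal hc).1 ha).isIntegral (F := K) (isUnit_iff_ne_zero.2 hc') (inv_mul_cancel_right₀ hc' _)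
      refine ⟨(⟨(a : K) * (c : K)⁻¹, (h1 : (a : K) * (c : K)⁻¹ ∈ integralClosure D K)⟩ : N) ⊗ₜ[A] (1 : A'), ?_⟩
      show Algebra.TensorProduct.map N.val (AlgHom.id A A') _ = g (a ⊗ₜ[A] (1 : A')) * _
      rw [Algebra.TensorProduct.map_tmul, Algebra.TensorProduct.map_tmul, Algebra.TensorProduct.tmul_mul_tmul]
      simp
    | zero => rw [map_zero, zero_mul]; exact zero_mem _
    | add v w _ _ hv hw => rw [map_add, add_mul]; exact add_mem hv hw
    | smul r w _ hw =>
      rw [smul_eq_mul, map_mul, mul_assoc]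
      refine mul_mem ?_ hw
      have hDN : D ≤ N := fun y hy => (isIntegral_algebraMap (x := (⟨y, hy⟩ : D)) : IsIntegral D y)
      exact ⟨Algebra.TensorProduct.map (Subalgebra.inclusion hDN) (AlgHom.id A A') r,
        congrArg (fun φ => φ r) (Algebra.TensorProduct.ext' (fun _ _ => rfl) :
          (Algebra.TensorProduct.map N.val (AlgHom.id A A')).comp
            (Algebra.TensorProduct.map (Subalgebra.inclusion hDN) (AlgHom.id A A')) = g)⟩
  rw [show g z = x * ((c : K) ⊗ₜ[A] (1 : A')) from hxz.symm, mul_assoc, Algebra.TensorProduct.tmul_mul_tmul,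
    mul_inv_cancel₀ hc', one_mul, ← Algebra.TensorProduct.one_def, mul_one] at key
  exact (mem_range_rTensor_iff N).2 key

/-- The case of a field. -/
theorem mem_range_of_field [IsNoetherianRing A]
    (hA' : ∀ (p : Ideal A) [p.IsPrime], Algebra.IsGeometricallyReduced p.ResidueField (p.Fiber A'))
    {K : Type u} [Field K] [Algebra A K] (B : Subalgebra A K) (x : K ⊗[A] A') (hx : IntT B x) :
    x ∈ LinearMap.range ((iclSub B).subtype.rTensor A') := by
  classical
  obtain ⟨t, htB, ht⟩ := hx.exists_finset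
  obtain ⟨s, hs⟩ := exists_finset_tensor x
  let gens : (s → ULift.{u} Bool) → Finset K := fun ε =>
    t ∪ s.attach.image fun k => if (ε k).down then (k : K) else (k : K)⁻¹
  let D : (s → ULift.{u} Bool) → Subalgebra A K := fun ε => Algebra.adjoin A (gens ε : Set K)
  have hsub : ∀ ε, (t : Set K) ⊆ D ε := fun ε a ha => Algebra.subset_adjoin (Finset.mem_union_left _ ha)
  have hgen : ∀ ε (k : s), (if (ε k).down then (k : K) else (k : K)⁻¹) ∈ D ε := fun ε k =>
    Algebra.subset_adjoin (Finset.mem_union_right _ (Finset.mem_image_of_mem _ (Finset.mem_attach _ k)))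
  have hstep : ∀ ε, x ∈ LinearMap.range ((iclSub (D ε)).subtype.rTensor A') := by
    intro ε
    let cf : s → D ε := fun k =>
      if h : (ε k).down = false ∧ (k : K) ≠ 0 then ⟨(k : K)⁻¹, by have := hgen ε k; simpa [h.1] using this⟩ else 1
    let c : D ε := ∏ k, cf k
    have hc : c ≠ 0 := Finset.prod_ne_zero_iff.2 fun k _ => by
      by_cases h : (ε k).down = false ∧ (k : K) ≠ 0
      · simp only [cf, dif_pos h]
        exact fun e => inv_ne_zero h.2 (congrArg Subtype.val e)
      · simp only [cf, dif_neg h]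
        exact one_ne_zero
    let N : Submodule A K := (Subalgebra.toSubmodule (D ε)).comap (LinearMap.mulRight A (c : K))
    obtain ⟨w, hw⟩ := hs N fun k hk => by
      show k * (c : K) ∈ D ε
      have hck : c = cf ⟨k, hk⟩ * ∏ j ∈ Finset.univ.erase ⟨k, hk⟩, cf j := (Finset.mul_prod_erase _ _ (Finset.mem_univ _)).symm
      rw [hck, MulMemClass.coe_mul, ← mul_assoc]
      refine Subalgebra.mul_mem _ ?_ (Subtype.prop _)
      have hk' := hgen ε ⟨k, hk⟩
      by_cases h : (ε ⟨k, hk⟩).down = false ∧ k ≠ 0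
      · simp only [cf, dif_pos h]
        rw [mul_inv_cancel₀ h.2]
        exact one_mem _
      · simp only [cf, dif_neg h, OneMemClass.coe_one, mul_one]
        rcases Bool.eq_false_or_eq_true (ε ⟨k, hk⟩).down with hb | hb
        · simpa [hb] using hk'
        · rw [not_and, not_not] at h
          rw [h hb]
          exact zero_mem _
    let φ : N →ₗ[A] D ε := ((LinearMap.mulRight A (c : K)).comp N.subtype).codRestrict (Subalgebra.toSubmodule (D ε)) fun y => y.2
    refine mem_range_of_denom hA' (D ε) ⟨_, rfl⟩ c hc (φ.rTensor A' w) x ?_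
      (ht (D ε) (hsub ε))
    rw [← hw]
    clear hw
    induction w with
    | zero => simp
    | tmul y a =>
      show ((y : K) ⊗ₜ[A] a) * _ = _
      rw [Algebra.TensorProduct.tmul_mul_tmul, mul_one]
      rfl
    | add y z hy hz => simp only [map_add, add_mul, hy, hz]
  refine mem_range_of_forall (fun ε => (iclSub (D ε)).mkQ) (iclSub B) (fun y hy => ?_) x fun ε =>
    range_le_ker _ _ (fun z hz => (Submodule.Quotient.mk_eq_zero _).2 hz) (hstep ε)
  have hy' : ∀ ε, IsIntegral (D ε) y := fun ε => (Submodule.Quotient.mk_eq_zero _).1 (hy ε)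
  let D₀ : Subalgebra A K := Algebra.adjoin A (t : Set K)
  have hD₀ : D₀ ≤ B := Algebra.adjoin_le htB
  have hmem : y ∈ (integralClosure (Subring.closure (D₀ : Set K)) K).toSubring := by
    rw [← iInf_valuationSubring_superset, Subring.mem_iInf]
    rintro ⟨V, hV⟩
    let ε : s → ULift.{u} Bool := fun k => ⟨decide ((k : K) ∈ V)⟩
    have hDV : ∀ a : K, a ∈ D ε → a ∈ V := by
      intro a ha
      induction ha using Algebra.adjoin_induction with
      | mem a ha =>
        rcases Finset.mem_union.1 ha with h | h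
        · exact hV (Algebra.subset_adjoin h)
        · obtain ⟨k, -, rfl⟩ := Finset.mem_image.1 h
          by_cases hk : (k : K) ∈ V
          · simpa [ε, hk] using hk
          · simpa [ε, hk] using (V.mem_or_inv_mem (k : K)).resolve_left hk
      | algebraMap r => exact hV (D₀.algebraMap_mem r)
      | add a b _ _ h1 h2 => exact add_mem h1 h2
      | mul a b _ _ h1 h2 => exact mul_mem h1 h2
    obtain ⟨p, hp, hev⟩ := hy' ε
    let i : D ε →+* V := (D ε).val.toRingHom.codRestrict V.toSubring fun a => hDV a.1 a.2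
    have hint : IsIntegral V y := ⟨p.map i, hp.map _, by rw [Polynomial.eval₂_map]; exact hev⟩
    obtain ⟨v, hv⟩ := IsIntegrallyClosed.isIntegral_iff.1 hint
    exact hv ▸ v.2
  obtain ⟨p, hp, hev⟩ := (hmem : IsIntegral (Subring.closure (D₀ : Set K)) y)
  let j : Subring.closure (D₀ : Set K) →+* B := (Subring.closure (D₀ : Set K)).subtype.codRestrict B.toSubring
    fun a => hD₀ ((Subring.closure_le.2 (Set.Subset.refl (D₀.toSubring : Set K)) : Subring.closure (D₀ : Set K) ≤ D₀.toSubring) a.2)
  exact ⟨p.map j, hp.map _, by rw [Polynomial.eval₂_map]; exact hev⟩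

/-- Integrality can be tested modulo the minimal primes. -/
theorem isIntegral_of_minimalPrimes {C : Type u} [CommRing C] [Algebra A C] [IsNoetherianRing C] (B : Subalgebra A C)
    (y : C) (h : ∀ P ∈ minimalPrimes C, ∃ q : B[X], q.Monic ∧ q.eval₂ B.val.toRingHom y ∈ P) : IsIntegral B y := by
  classical
  haveI : Finite (minimalPrimes C) := (minimalPrimes.finite_of_isNoetherianRing C).to_subtype
  haveI := Fintype.ofFinite (minimalPrimes C)
  choose q hq hqP using fun P : minimalPrimes C => h P.1 P.2
  let Q := ∏ P : minimalPrimes C, q P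
  have hQP : ∀ P ∈ minimalPrimes C, Q.eval₂ B.val.toRingHom y ∈ P := fun P hP => by
    haveI := hP.1.1
    simp only [Q, Polynomial.eval₂_finsetProd]
    exact Ideal.IsPrime.prod_mem_iff.2 ⟨⟨P, hP⟩, Finset.mem_univ _, hqP ⟨P, hP⟩⟩
  have hnil : IsNilpotent (Q.eval₂ B.val.toRingHom y) := by
    rw [← mem_nilradical, nilradical, ← Ideal.sInf_minimalPrimes, Submodule.mem_sInf]
    exact hQP
  obtain ⟨N, hN⟩ := hnil
  refine ⟨Q ^ N, (Polynomial.monic_prod_of_monic _ _ fun P _ => hq P).pow N, ?_⟩
  rw [Polynomial.eval₂_pow]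
  exact hN

/-- Noetherian rings. -/
theorem mem_range_of_noetherian [IsNoetherianRing A]
    (hA' : ∀ (p : Ideal A) [p.IsPrime], Algebra.IsGeometricallyReduced p.ResidueField (p.Fiber A'))
    {C : Type u} [CommRing C] [IsNoetherianRing C] [Algebra A C] (B : Subalgebra A C) (x : C ⊗[A] A')
    (hx : IntT B x) : x ∈ LinearMap.range ((iclSub B).subtype.rTensor A') := by
  classical
  haveI : Finite (minimalPrimes C) := (minimalPrimes.finite_of_isNoetherianRing C).to_subtype
  haveI : ∀ P : minimalPrimes C, (P.1 : Ideal C).IsPrime := fun P => P.2.1.1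
  let K : minimalPrimes C → Type u := fun P => FractionRing (C ⧸ P.1)
  let h : ∀ P : minimalPrimes C, C →ₐ[A] K P := fun P =>
    (IsScalarTower.toAlgHom A (C ⧸ P.1) (K P)).comp (Ideal.Quotient.mkₐ A P.1)
  let f : ∀ P : minimalPrimes C, C →ₗ[A] K P ⧸ iclSub (B.map (h P)) := fun P =>
    (iclSub (B.map (h P))).mkQ.comp (h P).toLinearMap
  refine mem_range_of_forall f (iclSub B) (fun y hy => ?_) x fun P => ?_
  · refine isIntegral_of_minimalPrimes B y fun P hP => ?_
    have h1 : IsIntegral (B.map (h ⟨P, hP⟩)) (h ⟨P, hP⟩ y) := (Submodule.Quotient.mk_eq_zero _).1 (hy ⟨P, hP⟩)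
    obtain ⟨q, hq, hev⟩ := h1
    let r : B →ₐ[A] B.map (h ⟨P, hP⟩) := ((h ⟨P, hP⟩).comp B.val).codRestrict _ fun b => ⟨b.1, b.2, rfl⟩
    have hr : Function.Surjective r := fun z => by
      obtain ⟨b, hb, hbz⟩ := z.2
      exact ⟨⟨b, hb⟩, Subtype.ext hbz⟩
    obtain ⟨q', hq', -, hq'm⟩ := Polynomial.lifts_and_degree_eq_and_monic
      ((Polynomial.lifts_iff_coeff_lifts q).2 fun n => hr _ : q ∈ Polynomial.lifts r.toRingHom) hq
    refine ⟨q', hq'm, ?_⟩
    rw [← Ideal.Quotient.eq_zero_iff_mem]
    refine IsFractionRing.injective (C ⧸ P) (K ⟨P, hP⟩) ?_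
    rw [map_zero]
    show (h ⟨P, hP⟩).toRingHom (q'.eval₂ B.val.toRingHom y) = 0
    rw [Polynomial.hom_eval₂]
    rw [← hq', Polynomial.eval₂_map] at hev
    exact hev
  · have h1 := mem_range_of_field hA' (B.map (h P)) _ (hx.map (h P) (B' := B.map (h P)) fun b hb => ⟨b, hb, rfl⟩)
    show ((iclSub (B.map (h P))).mkQ.comp (h P).toLinearMap).rTensor A' x = 0
    rw [LinearMap.rTensor_comp_apply]
    exact range_le_ker _ _ (fun z hz => (Submodule.Quotient.mk_eq_zero _).2 hz) h1

/-- **Integral closure commutes with flat base change with geometrically reduced fibres.** -/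
theorem mem_range_of_intT [IsNoetherianRing A]
    (hA' : ∀ (p : Ideal A) [p.IsPrime], Algebra.IsGeometricallyReduced p.ResidueField (p.Fiber A'))
    {C : Type u} [CommRing C] [Algebra A C] (B : Subalgebra A C) (x : C ⊗[A] A') (hx : IntT B x) :
    x ∈ LinearMap.range ((iclSub B).subtype.rTensor A') := by
  classical
  obtain ⟨t, htB, ht⟩ := hx.exists_finset
  obtain ⟨s, hs⟩ := exists_finset_tensor x
  let C₀ : Subalgebra A C := Algebra.adjoin A ((s ∪ t : Finset C) : Set C)
  let B₀ : Subalgebra A C := Algebra.adjoin A (t : Set C)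
  haveI : Algebra.FiniteType A C₀ := (Subalgebra.fg_iff_finiteType C₀).1 (Subalgebra.fg_adjoin_finset _)
  haveI : IsNoetherianRing C₀ := Algebra.FiniteType.isNoetherianRing A C₀
  obtain ⟨w, hw⟩ := hs (Subalgebra.toSubmodule C₀) fun a ha => Algebra.subset_adjoin (Finset.mem_union_left _ ha)
  have hw' : Algebra.TensorProduct.map C₀.val (AlgHom.id A A') w = x := hw
  have hw0 : IntT (B₀.comap C₀.val) w := by
    obtain ⟨p, hp, hev⟩ := ht B₀ Algebra.subset_adjoin
    have hB₀ : B₀ ≤ C₀ := Algebra.adjoin_mono (by simp)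
    let r : B₀ →ₐ[A] B₀.comap C₀.val := (Subalgebra.inclusion hB₀).codRestrict _ fun b => b.2
    refine ⟨p.map (Algebra.TensorProduct.map r (AlgHom.id A A')).toRingHom, hp.map _,
      Module.Flat.rTensor_preserves_injective_linearMap (M := A') C₀.val.toLinearMap Subtype.val_injective ?_⟩
    show (Algebra.TensorProduct.map C₀.val (AlgHom.id A A')).toRingHom _ =
      (Algebra.TensorProduct.map C₀.val (AlgHom.id A A')).toRingHom 0
    rw [map_zero, Polynomial.hom_eval₂, Polynomial.eval₂_map]
    have h1 : ((Algebra.TensorProduct.map C₀.val (AlgHom.id A A')).comp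
        (Algebra.TensorProduct.map (B₀.comap C₀.val).val (AlgHom.id A A'))).comp
        (Algebra.TensorProduct.map r (AlgHom.id A A')) = Algebra.TensorProduct.map B₀.val (AlgHom.id A A') :=
      Algebra.TensorProduct.ext' fun b a => rfl
    rw [← hev, ← hw']
    exact congrArg (fun φ => Polynomial.eval₂ φ _ p) (congrArg AlgHom.toRingHom h1)
  obtain ⟨v, hv⟩ := mem_range_of_noetherian hA' (C := C₀) (B₀.comap C₀.val) w hw0
  have hle : (iclSub (B₀.comap C₀.val)).map C₀.val.toLinearMap ≤ iclSub B := by
    rintro _ ⟨y, ⟨p, hp, hev⟩, rfl⟩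
    let r : B₀.comap C₀.val →ₐ[A] B := (C₀.val.comp (B₀.comap C₀.val).val).codRestrict _ fun b =>
      (Algebra.adjoin_le htB : B₀ ≤ B) b.2
    refine ⟨p.map r.toRingHom, hp.map _, ?_⟩
    rw [Polynomial.eval₂_map]
    have := congrArg C₀.val.toRingHom hev
    rw [map_zero, Polynomial.hom_eval₂] at this
    exact this
  let ψ : iclSub (B₀.comap C₀.val) →ₗ[A] iclSub B :=
    (C₀.val.toLinearMap.comp (iclSub (B₀.comap C₀.val)).subtype).codRestrict _ fun y => hle ⟨y.1, y.2, rfl⟩
  refine ⟨ψ.rTensor A' v, ?_⟩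
  rw [← hw', ← hv, ← LinearMap.rTensor_comp_apply]
  show _ = (C₀.val.toLinearMap.rTensor A') _
  rw [← LinearMap.rTensor_comp_apply]
  rfl

end Groth.Agent.NormalBC6
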