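import Groth.Agent.Lib.NormalBC6.IntDiv
import Groth.Agent.Lib.FlatDepth.RegNormal
import Mathlib

/-! # Normality of a ring integrally closed in a ring exhausted by Noetherian normal rings -/

set_option autoImplicit false
set_option linter.style.haveILetI false
universe u

open Polynomial

namespace Groth.Agent.NormalBC6

/-- In a normal Noetherian ring annihilators of elements are generated by idempotents. -/
theorem exists_idempotent_ann (N : Type u) [CommRing N] [IsNoetherianRing N] (hN : EGA4.IsNormalRing N) (x : N) :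
    ∃ e : N, IsIdempotentElem e ∧ ∀ y, y * x = 0 ↔ y ∈ Ideal.span {e} := by
  let J : Ideal N := LinearMap.ker (LinearMap.mulRight N x)
  have hJ : IsIdempotentElem J := by
    refine le_antisymm Ideal.mul_le_right fun y hy => ?_
    by_contra hny
    obtain ⟨P, hP, hle⟩ := Ideal.exists_le_maximal (Submodule.colon (J * J) ({y} : Set N))
      (fun h => hny (by
        have h1 := (Ideal.eq_top_iff_one _).1 h
        rwa [Submodule.mem_colon_singleton, one_smul] at h1))
    haveI := hP.isPrime
    haveI := (hN P).1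
    have hyx : algebraMap N (Localization.AtPrime P) y * algebraMap N (Localization.AtPrime P) x = 0 := by
      rw [← map_mul, show y * x = 0 from hy, map_zero]
    rcases mul_eq_zero.1 hyx with h | h
    · obtain ⟨s, hs⟩ := (IsLocalization.map_eq_zero_iff P.primeCompl _ y).1 h
      exact s.2 (hle (Submodule.mem_colon_singleton.2 (by rw [smul_eq_mul, hs]; exact zero_mem _)))
    · obtain ⟨s, hs⟩ := (IsLocalization.map_eq_zero_iff P.primeCompl _ x).1 h
      exact s.2 (hle (Submodule.mem_colon_singleton.2 (by rw [smul_eq_mul]; exact Ideal.mul_mem_mul hs hy)))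
  obtain ⟨e, he, hJe⟩ := (J.isIdempotentElem_iff_of_fg (IsNoetherian.noetherian J)).1 hJ
  exact ⟨e, he, fun y => by rw [show (y * x = 0) = (y ∈ J) from rfl, hJe]⟩

/-- In a normal Noetherian ring an element integral over `(b)` is `b` times an element integral over the
coefficients. -/
theorem exists_mul_eq_of_intDiv (N : Type u) [CommRing N] [IsNoetherianRing N] (hN : EGA4.IsNormalRing N) (b a : N)
    (n : ℕ) (r : ℕ → N) (h : a ^ n + ∑ i ∈ Finset.range n, r i * b ^ (n - i) * a ^ i = 0) :
    ∃ ξ : N, b * ξ = a ∧ ξ * (ξ ^ n + ∑ i ∈ Finset.range n, r i * ξ ^ i) = 0 := by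
  have hdvd : b ∣ a := by
    rw [← Ideal.mem_span_singleton]
    by_contra hna
    obtain ⟨P, hP, hle⟩ := Ideal.exists_le_maximal (Submodule.colon (Ideal.span {b}) ({a} : Set N))
      (fun h => hna (by
        have h1 := (Ideal.eq_top_iff_one _).1 h
        rwa [Submodule.mem_colon_singleton, one_smul] at h1))
    haveI := hP.isPrime
    haveI := (hN P).1
    haveI := (hN P).2
    let f := algebraMap N (Localization.AtPrime P)
    have hd : IntDiv (f b) (f a) := IntDiv.map f ⟨n, r, h⟩
    by_cases hb : f b = 0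
    · obtain ⟨m, s, hs⟩ := hd
      have hsum : ∑ i ∈ Finset.range m, s i * f b ^ (m - i) * f a ^ i = 0 :=
        Finset.sum_eq_zero fun i hi => by
          rw [hb, zero_pow (Nat.sub_ne_zero_of_lt (Finset.mem_range.1 hi)), mul_zero, zero_mul]
      rw [hsum, add_zero] at hs
      obtain ⟨t, ht⟩ := (IsLocalization.map_eq_zero_iff P.primeCompl _ a).1 (eq_zero_of_pow_eq_zero hs)
      exact t.2 (hle (Submodule.mem_colon_singleton.2 (by rw [smul_eq_mul, ht]; exact zero_mem _)))
    · obtain ⟨q, hq⟩ := hd.dvd hb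
      obtain ⟨z, s, rfl⟩ := IsLocalization.exists_mk'_eq P.primeCompl q
      have h1 : f ((s : N) * a) = f (b * z) := by
        rw [map_mul, map_mul, hq, mul_left_comm, IsLocalization.mk'_spec']
      obtain ⟨t, ht⟩ := (IsLocalization.eq_iff_exists P.primeCompl _).1 h1
      refine (mul_mem t.2 s.2 : (t : N) * s ∈ P.primeCompl) (hle (Submodule.mem_colon_singleton.2 ?_))
      rw [smul_eq_mul, mul_assoc, ht]
      exact Ideal.mem_span_singleton.2 ⟨t * z, by ring⟩
  obtain ⟨ξ₀, rfl⟩ := hdvd
  obtain ⟨e, he, hann⟩ := exists_idempotent_ann N hN b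
  have hbe : e * b = 0 := (hann e).2 (Ideal.mem_span_singleton_self e)
  let ξ := (1 - e) * ξ₀
  have hξ : b * ξ = b * ξ₀ := by
    show b * ((1 - e) * ξ₀) = b * ξ₀
    linear_combination (-ξ₀) * hbe
  have hξe : ξ * e = 0 := by
    show (1 - e) * ξ₀ * e = 0
    linear_combination (-ξ₀) * he.eq
  clear_value ξ
  refine ⟨ξ, hξ, ?_⟩
  have hb : (ξ ^ n + ∑ i ∈ Finset.range n, r i * ξ ^ i) * b ^ n = 0 := by
    rw [← h, ← hξ, add_mul, Finset.sum_mul]
    congr 1
    · rw [← mul_pow, mul_comm]
    refine Finset.sum_congr rfl fun i hi => ?_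
    show _ = _
    conv_lhs => rw [← Nat.sub_add_cancel (Finset.mem_range.1 hi).le, pow_add]
    rw [mul_pow]
    ring
  haveI := FlatDepth.isReduced_of_isNormalRing N hN
  have hb1 : (ξ ^ n + ∑ i ∈ Finset.range n, r i * ξ ^ i) * b = 0 := by
    refine (IsNilpotent.eq_zero ⟨n + 1, ?_⟩)
    rw [mul_pow, pow_succ b]
    linear_combination (ξ ^ n + ∑ i ∈ Finset.range n, r i * ξ ^ i) ^ n * b * hb
  obtain ⟨w, hw⟩ := Ideal.mem_span_singleton.1 ((hann _).1 hb1)
  rw [hw, ← mul_assoc, hξe, zero_mul]

/-- **Criterion.** A ring integrally closed in an overring exhausted by Noetherian normal rings is normal. -/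
theorem isNormalRing_of_exhausted {C W : Type u} [CommRing C] [CommRing W] [Algebra C W]
    (hinj : Function.Injective (algebraMap C W))
    (hIC : ∀ w : W, IsIntegral C w → w ∈ (algebraMap C W).range)
    (hN : ∀ s : Finset W, ∃ (N : Type u) (_ : CommRing N) (i : N →+* W),
      IsNoetherianRing N ∧ EGA4.IsNormalRing N ∧ Function.Injective i ∧ (s : Set W) ⊆ Set.range i) :
    EGA4.IsNormalRing C := by
  classical
  intro P hP
  let R := Localization.AtPrime P
  let f := algebraMap C R
  let j := algebraMap C W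
  have hdom : IsDomain R := by
    refine @NoZeroDivisors.to_isDomain R _ _ ⟨fun {a b} hab => ?_⟩
    obtain ⟨x, s, rfl⟩ := IsLocalization.exists_mk'_eq P.primeCompl a
    obtain ⟨y, t, rfl⟩ := IsLocalization.exists_mk'_eq P.primeCompl b
    rw [← IsLocalization.mk'_mul, IsLocalization.mk'_eq_zero_iff] at hab
    obtain ⟨u, hu⟩ := hab
    obtain ⟨N, _, i, hNN, hNn, hi, hsN⟩ := hN {j ((u : C) * x), j y}
    obtain ⟨x', hx'⟩ := hsN (by simp : j ((u : C) * x) ∈ _)
    obtain ⟨y', hy'⟩ := hsN (by simp : j y ∈ _)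
    haveI := hNN
    obtain ⟨e, he, hann⟩ := exists_idempotent_ann N hNn x'
    obtain ⟨ε, hε⟩ := hIC (i e) (by
      refine ⟨X ^ 2 - X, Polynomial.monic_X_pow_sub (Polynomial.degree_X_le.trans_lt (WithBot.coe_lt_coe.2 (by decide : (1 : ℕ) < 2))), ?_⟩
      rw [Polynomial.eval₂_sub, Polynomial.eval₂_X_pow, Polynomial.eval₂_X, ← map_pow, pow_two, he.eq, sub_self])
    have hεε : IsIdempotentElem ε := hinj (by rw [map_mul, hε, ← map_mul, he.eq])
    have h1 : ε * ((u : C) * x) = 0 := hinj (by
      rw [map_mul, hε, ← hx', ← map_mul, (hann e).2 (Ideal.mem_span_singleton_self e), map_zero, map_zero])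
    have h2 : y * ε = y := hinj (by
      have hy0 : y' * x' = 0 := hi (by
        rw [map_mul, hx', hy', ← map_mul, map_zero, show y * ((u : C) * x) = (u : C) * (x * y) by ring, hu, map_zero])
      obtain ⟨w, hw⟩ := Ideal.mem_span_singleton.1 ((hann y').1 hy0)
      rw [map_mul, hε, ← hy', ← map_mul, hw, mul_right_comm, he.eq])
    rcases (IsLocalRing.isUnit_or_isUnit_one_sub_self (f ε)).symm with hu1 | hu1
    · have h0 : f ε = 0 := by
        have : (1 - f ε) * f ε = 0 := by rw [sub_mul, one_mul, ← map_mul, hεε.eq, sub_self]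
        exact hu1.mul_right_eq_zero.1 this
      right
      have hy0 : f y = 0 := by rw [← h2, map_mul, h0, mul_zero]
      obtain ⟨v, hv⟩ := (IsLocalization.map_eq_zero_iff P.primeCompl R y).1 hy0
      exact (IsLocalization.mk'_eq_zero_iff _ _).2 ⟨v, hv⟩
    · left
      have hx0 : f ((u : C) * x) = 0 := hu1.mul_right_eq_zero.1 (by rw [← map_mul, h1, map_zero])
      rw [map_mul] at hx0
      obtain ⟨v, hv⟩ := (IsLocalization.map_eq_zero_iff P.primeCompl R x).1
        ((IsLocalization.map_units R u).mul_right_eq_zero.1 hx0)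
      exact (IsLocalization.mk'_eq_zero_iff _ _).2 ⟨v, hv⟩
  haveI := hdom
  refine ⟨hdom, ?_⟩
  let F := FractionRing R
  rw [isIntegrallyClosed_iff F]
  intro α hα
  obtain ⟨a₁, b₁, hb₁, rfl⟩ := IsFractionRing.div_surjective R α
  obtain ⟨a, s, rfl⟩ := IsLocalization.exists_mk'_eq P.primeCompl a₁
  obtain ⟨b, t, rfl⟩ := IsLocalization.exists_mk'_eq P.primeCompl b₁
  have hb0 : algebraMap R F (IsLocalization.mk' R b t) ≠ 0 :=
    IsFractionRing.to_map_ne_zero_of_mem_nonZeroDivisors hb₁
  -- `a / s` divided by `b / t` equals `(a t) / (b s)`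
  have hd : IntDiv (f (b * s)) (f (a * t)) := by
    refine IntDiv.of_isIntegral (IsFractionRing.injective R F) hα ?_
    rw [div_mul_eq_mul_div, div_eq_iff hb0, ← map_mul, ← map_mul]
    congr 1
    simp only [f, map_mul]
    conv_lhs => rw [← IsLocalization.mk'_spec' R b t]
    conv_rhs => rw [← IsLocalization.mk'_spec' R a s]
    ring
  obtain ⟨n, r, hr⟩ := hd
  obtain ⟨d, hd⟩ := IsLocalization.exist_integer_multiples P.primeCompl (Finset.range n) r
  choose! c hc using hd
  have hC : f (((d : C) * (a * t)) ^ n + ∑ i ∈ Finset.range n,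
      c i * (d : C) ^ (n - i - 1) * (b * s) ^ (n - i) * ((d : C) * (a * t)) ^ i) = 0 := by
    have h' : f ((d : C) ^ n) * (f (a * t) ^ n + ∑ i ∈ Finset.range n, r i * f (b * s) ^ (n - i) * f (a * t) ^ i) = 0 := by
      rw [hr, mul_zero]
    rw [mul_add, Finset.mul_sum] at h'
    rw [← h', map_add, map_sum]
    congr 1
    · simp only [map_pow, map_mul, mul_pow]
    · refine Finset.sum_congr rfl fun i hi => ?_
      have hci : f (c i) = f (d : C) * r i := (hc i hi).trans (Algebra.smul_def _ _)
      have hin : i < n := Finset.mem_range.1 hi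
      simp only [map_mul, map_pow, hci, mul_pow]
      conv_rhs => rw [show n = 1 + (n - i - 1) + i by omega, pow_add, pow_add, pow_one,
        show 1 + (n - i - 1) + i - i = n - i by omega]
      ring
  obtain ⟨v, hv⟩ := (IsLocalization.map_eq_zero_iff P.primeCompl R _).1 hC
  let A₀ := (v : C) * ((d : C) * (a * t))
  let B₀ := b * s
  let r₀ : ℕ → C := fun i => c i * (d : C) ^ (n - i - 1) * (v : C) ^ (n - i)
  have hB : f B₀ ≠ 0 := by
    intro h
    rw [map_mul] at h
    have hb2 : f b = 0 := (IsLocalization.map_units R s).mul_left_eq_zero.1 h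
    refine hb0 ?_
    rw [IsLocalization.mk'_eq_mul_mk'_one b t, show algebraMap C R b = 0 from hb2, zero_mul, map_zero]
  by_cases hn : n = 0
  · subst hn
    simp only [Finset.range_zero, Finset.sum_empty, pow_zero, add_zero, mul_one] at hv
    exact absurd ((IsLocalization.map_eq_zero_iff P.primeCompl R (1 : C)).2 ⟨v, by rw [mul_one]; exact hv⟩)
      (by rw [map_one]; exact one_ne_zero)
  have heq : A₀ ^ n + ∑ i ∈ Finset.range n, r₀ i * B₀ ^ (n - i) * A₀ ^ i = 0 := by
    have h' := congrArg (fun z => (v : C) ^ (n - 1) * z) hv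
    simp only [mul_zero] at h'
    rw [← mul_assoc, ← pow_succ, Nat.sub_add_cancel (Nat.pos_of_ne_zero hn), mul_add, Finset.mul_sum] at h'
    rw [← h']
    congr 1
    · simp only [A₀, mul_pow]
    · refine Finset.sum_congr rfl fun i hi => ?_
      simp only [A₀, r₀, B₀, mul_pow]
      conv_rhs => rw [← Nat.sub_add_cancel (Finset.mem_range.1 hi).le, pow_add,
        Nat.sub_add_cancel (Finset.mem_range.1 hi).le]
      ring
  obtain ⟨N, _, i, hNN, hNn, hi, hsN⟩ := hN (insert (j A₀) (insert (j B₀) ((Finset.range n).image fun k => j (r₀ k))))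
  obtain ⟨A', hA'⟩ := hsN (Finset.mem_coe.2 (Finset.mem_insert_self _ _))
  obtain ⟨B', hB'⟩ := hsN (Finset.mem_coe.2 (Finset.mem_insert_of_mem (Finset.mem_insert_self _ _)))
  have hr' : ∀ k ∈ Finset.range n, ∃ z, i z = j (r₀ k) := fun k hk =>
    hsN (Finset.mem_coe.2 (Finset.mem_insert_of_mem (Finset.mem_insert_of_mem (Finset.mem_image_of_mem _ hk))))
  choose! r' hr' using hr'
  haveI := hNN
  obtain ⟨ξ, hξ, hξ0⟩ := exists_mul_eq_of_intDiv N hNn B' A' n r' (hi (by
    rw [map_zero, ← map_zero j, ← heq, map_add, map_sum, map_add, map_sum, map_pow, map_pow, hA']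
    congr 1
    refine Finset.sum_congr rfl fun k hk => ?_
    simp only [map_mul, map_pow, hA', hB', hr' k hk]))
  obtain ⟨γ, hγ⟩ := hIC (i ξ) (by
    let q : C[X] := ∑ k ∈ Finset.range n, Polynomial.C (r₀ k) * X ^ (k + 1)
    refine ⟨X ^ (n + 1) + q, Polynomial.monic_X_pow_add ?_, ?_⟩
    · refine (Polynomial.degree_sum_le _ _).trans_lt ((Finset.sup_lt_iff (WithBot.bot_lt_coe _)).2 fun k hk => ?_)
      exact (Polynomial.degree_C_mul_X_pow_le _ _).trans_lt
        (Nat.cast_lt.2 (Nat.succ_lt_succ (Finset.mem_range.1 hk)))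
    · rw [← map_zero i, ← hξ0, Polynomial.eval₂_add, Polynomial.eval₂_X_pow, Polynomial.eval₂_finsetSum, map_mul,
        map_add, map_sum, mul_add, Finset.mul_sum, map_pow, ← pow_succ']
      congr 1
      refine Finset.sum_congr rfl fun k hk => ?_
      rw [Polynomial.eval₂_mul, Polynomial.eval₂_C, Polynomial.eval₂_X_pow, map_mul i (r' k), hr' k hk, map_pow]
      ring)
  have hmul : f B₀ * f γ = f A₀ := by
    rw [← map_mul]
    congr 1
    exact hinj (by rw [map_mul, hγ, ← hB', ← map_mul, hξ, hA'])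
  obtain ⟨w, hw⟩ := IsUnit.exists_left_inv (a := f ((v : C) * d))
    (by rw [map_mul]; exact (IsLocalization.map_units R v).mul (IsLocalization.map_units R d))
  refine ⟨f γ * w, ?_⟩
  rw [eq_div_iff hb0, ← map_mul]
  congr 1
  refine ((IsLocalization.map_units R t).mul (IsLocalization.map_units R s)).mul_left_cancel ?_
  have e1 := IsLocalization.mk'_spec' R a s
  have e2 := IsLocalization.mk'_spec' R b t
  simp only [f, A₀, B₀, map_mul] at hmul hw e1 e2 ⊢
  linear_combination w * hmul + algebraMap C R a * algebraMap C R t * hw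
    + (algebraMap C R s * (algebraMap C R γ * w)) * e2 - algebraMap C R t * e1

end Groth.Agent.NormalBC6
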