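import Groth.Agent.Lib.NormalBC6.Apply
import Groth.Agent.Lib.NormalBC6.Criterion
import Groth.Agent.Lib.FlatDepth.HomBC
import Mathlib

/-! # Base change of normal homomorphisms to arbitrary normal rings -/

set_option autoImplicit false
set_option linter.style.haveILetI false
universe u

open TensorProduct

namespace Groth.Agent.NormalBC6

theorem isNormalRing_of_isNormalHom_field (L R : Type u) [Field L] [CommRing R] [Algebra L R]
    (h : EGA4.IsNormalHom L R) : EGA4.IsNormalRing R := by
  let p : Ideal L := ⊥
  haveI : p.IsPrime := Ideal.isPrime_bot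
  have hn : EGA4.IsNormalRing (p.ResidueField ⊗[p.ResidueField] p.Fiber R) := h.2 p p.ResidueField inferInstance
  haveI : p.IsMaximal := Ideal.bot_isMaximal
  let e₀ : L ≃ₐ[L] p.ResidueField := AlgEquiv.ofBijective (Algebra.ofId L p.ResidueField)
    ⟨(algebraMap L p.ResidueField).injective, Ideal.algebraMap_residueField_surjective p⟩
  let e : R ≃+* p.ResidueField ⊗[p.ResidueField] p.Fiber R :=
    ((Algebra.TensorProduct.lid L R).symm.trans (Algebra.TensorProduct.congr e₀ AlgEquiv.refl)).toRingEquiv.trans
      (Algebra.TensorProduct.lid p.ResidueField (p.Fiber R)).symm.toRingEquiv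
  exact FlatDepth.isNormalRing_of_ringEquiv e.symm hn

variable {A A' : Type u} [CommRing A] [CommRing A'] [Algebra A A']

/-- `L ⊗ A'` is normal for a field `L` essentially of finite type over `A`. -/
theorem isNormalRing_tensor_field [IsNoetherianRing A'] (h : EGA4.IsNormalHom A A') (L : Type u) [Field L]
    [Algebra A L] [Algebra.EssFiniteType A L] :
    IsNoetherianRing (A' ⊗[A] L) ∧ EGA4.IsNormalRing (A' ⊗[A] L) := by
  haveI : IsNoetherianRing (A' ⊗[A] L) := Algebra.EssFiniteType.isNoetherianRing A' _
  haveI : IsNoetherianRing (L ⊗[A] A') :=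
    isNoetherianRing_of_ringEquiv _ (Algebra.TensorProduct.comm A A' L).toRingEquiv
  exact ⟨inferInstance, FlatDepth.isNormalRing_of_ringEquiv (Algebra.TensorProduct.comm A L A').toRingEquiv
    (isNormalRing_of_isNormalHom_field L _ (FlatDepth.isNormalHom_baseChange A A' L h))⟩

/-- Noetherian normal rings exhaust `A' ⊗ K`. -/
theorem exists_level [IsNoetherianRing A'] (h : EGA4.IsNormalHom A A') (K : Type u) [Field K] [Algebra A K]
    (s : Finset (A' ⊗[A] K)) :
    ∃ (N : Type u) (_ : CommRing N) (i : N →+* A' ⊗[A] K),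
      IsNoetherianRing N ∧ EGA4.IsNormalRing N ∧ Function.Injective i ∧ (s : Set (A' ⊗[A] K)) ⊆ Set.range i := by
  classical
  haveI := h.1
  choose t ht using fun x : A' ⊗[A] K => exists_finset_tensor (A' := A') (Algebra.TensorProduct.comm A A' K x)
  let D : Subalgebra A K := Algebra.adjoin A ((s.biUnion t : Finset K) : Set K)
  haveI : Algebra.FiniteType A D := (Subalgebra.fg_iff_finiteType D).1 (Subalgebra.fg_adjoin_finset _)
  let L := FractionRing D
  haveI : Algebra.EssFiniteType D L := Algebra.EssFiniteType.of_isLocalization L (nonZeroDivisors D)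
  haveI : Algebra.EssFiniteType A L := Algebra.EssFiniteType.comp A D L
  let ψ : L →ₐ[A] K := IsFractionRing.liftAlgHom (g := D.val) (K := L) Subtype.val_injective
  let i : A' ⊗[A] L →ₐ[A] A' ⊗[A] K := Algebra.TensorProduct.map (AlgHom.id A A') ψ
  have hi : Function.Injective i :=
    Module.Flat.lTensor_preserves_injective_linearMap (M := A') ψ.toLinearMap ψ.toRingHom.injective
  obtain ⟨hN, hn⟩ := isNormalRing_tensor_field h L
  refine ⟨A' ⊗[A] L, inferInstance, i.toRingHom, hN, hn, hi, fun x hx => ?_⟩
  obtain ⟨w, hw⟩ := ht x (Subalgebra.toSubmodule D) fun a ha =>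
    Algebra.subset_adjoin (Finset.mem_biUnion.2 ⟨x, hx, ha⟩)
  refine ⟨Algebra.TensorProduct.map (AlgHom.id A A') (IsScalarTower.toAlgHom A D L)
    (Algebra.TensorProduct.comm A D A' w), ?_⟩
  have hcomp : (Algebra.TensorProduct.comm A A' K).toAlgHom.comp (i.comp
      ((Algebra.TensorProduct.map (AlgHom.id A A') (IsScalarTower.toAlgHom A D L)).comp
        (Algebra.TensorProduct.comm A D A').toAlgHom)) = Algebra.TensorProduct.map D.val (AlgHom.id A A') :=
    Algebra.TensorProduct.ext' fun d a => by
      show ψ (algebraMap D L d) ⊗ₜ[A] a = (d : K) ⊗ₜ[A] a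
      rw [show ψ (algebraMap D L d) = D.val d from
        IsFractionRing.lift_algebraMap (g := D.val.toRingHom) Subtype.val_injective d]
      rfl
  exact (Algebra.TensorProduct.comm A A' K).injective (((congrArg (fun φ => φ w) hcomp)).trans hw)

/-- The domain case. -/
theorem isNormalRing_tensor_domain [IsNoetherianRing A] [IsNoetherianRing A'] (h : EGA4.IsNormalHom A A')
    (B : Type u) [CommRing B] [IsDomain B] [IsIntegrallyClosed B] [Algebra A B] :
    EGA4.IsNormalRing (A' ⊗[A] B) := by
  haveI := h.1
  let K := FractionRing B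
  let g : A' ⊗[A] B →ₐ[A'] A' ⊗[A] K :=
    Algebra.TensorProduct.map (AlgHom.id A' A') (IsScalarTower.toAlgHom A B K)
  letI : Algebra (A' ⊗[A] B) (A' ⊗[A] K) := g.toRingHom.toAlgebra
  refine isNormalRing_of_exhausted (W := A' ⊗[A] K) ?_ (fun w hw => ?_) (exists_level h K)
  · exact Module.Flat.lTensor_preserves_injective_linearMap (M := A') (IsScalarTower.toAlgHom A B K).toLinearMap
      (IsFractionRing.injective B K)
  · have hw' : w ∈ integralClosure g.range (A' ⊗[A] K) := by
      obtain ⟨p, hp, hev⟩ := hw
      refine ⟨p.map g.rangeRestrict.toRingHom, hp.map _, ?_⟩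
      rw [Polynomial.eval₂_map]
      exact hev
    have := (Set.ext_iff.1 (integralClosure_map (B := B) (C := K) (reducedFibres_of_isNormalHom h)) w).1 hw'
    obtain ⟨z, rfl⟩ := this
    clear hw hw'
    induction z with
    | zero => rw [map_zero]; exact zero_mem _
    | tmul a d =>
      obtain ⟨b, hb⟩ := IsIntegrallyClosed.isIntegral_iff.1 d.2
      exact ⟨a ⊗ₜ b, congrArg (fun t => a ⊗ₜ[A] t) hb⟩
    | add y z hy hz => rw [map_add]; exact add_mem hy hz

/-- The base change of a normal homomorphism to a normal ring is normal. -/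
theorem isNormalRing_tensor [IsNoetherianRing A] [IsNoetherianRing A'] (h : EGA4.IsNormalHom A A')
    (B : Type u) [CommRing B] [Algebra A B] (hB : EGA4.IsNormalRing B) : EGA4.IsNormalRing (A' ⊗[A] B) := by
  suffices EGA4.IsNormalRing (B ⊗[A] A') from
    FlatDepth.isNormalRing_of_ringEquiv (Algebra.TensorProduct.comm A B A').toRingEquiv this
  intro P _
  let q := P.comap (algebraMap B (B ⊗[A] A'))
  haveI : q.IsPrime := Ideal.IsPrime.comap _
  haveI := (hB q).1
  haveI := (hB q).2
  let Bq := Localization.AtPrime q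
  let D' := (B ⊗[A] A') ⊗[B] Bq
  have hD' : EGA4.IsNormalRing D' :=
    FlatDepth.isNormalRing_of_ringEquiv
      ((Algebra.TensorProduct.comm A A' Bq).toRingEquiv.trans
        ((Algebra.TensorProduct.cancelBaseChange A B B Bq A').symm.toRingEquiv.trans
          (Algebra.TensorProduct.comm B Bq (B ⊗[A] A')).toRingEquiv))
      (isNormalRing_tensor_domain h Bq)
  haveI : IsLocalization (Algebra.algebraMapSubmonoid (B ⊗[A] A') q.primeCompl) D' := by infer_instance
  have hdisj : Disjoint (Algebra.algebraMapSubmonoid (B ⊗[A] A') q.primeCompl : Set (B ⊗[A] A'))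
      (P : Set (B ⊗[A] A')) := Set.disjoint_left.2 fun _ ⟨s, hs, hsx⟩ hP => hs (hsx ▸ hP : algebraMap B (B ⊗[A] A') s ∈ P)
  let P' := P.map (algebraMap (B ⊗[A] A') D')
  haveI : P'.IsPrime := IsLocalization.isPrime_of_isPrime_disjoint _ D' P ‹_› hdisj
  have hc : P'.comap (algebraMap (B ⊗[A] A') D') = P := IsLocalization.under_map_of_isPrime_disjoint _ D' ‹_› hdisj
  haveI : IsLocalization.AtPrime (Localization.AtPrime P') P := by
    have h1 := IsLocalization.isLocalization_isLocalization_atPrime_isLocalization
      (Algebra.algebraMapSubmonoid (B ⊗[A] A') q.primeCompl) (Localization.AtPrime P') P'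
    simpa only [hc] using h1
  let e : Localization.AtPrime P' ≃+* Localization.AtPrime P :=
    (IsLocalization.algEquiv P.primeCompl _ _).toRingEquiv
  obtain ⟨h1, h2⟩ := hD' P'
  haveI : IsDomain (Localization.AtPrime P) := MulEquiv.isDomain _ e.symm.toMulEquiv
  exact ⟨inferInstance, IsIntegrallyClosed.of_equiv (R := Localization.AtPrime P') e⟩

/-- A geometrically reduced field extension is a normal homomorphism. -/
theorem isNormalHom_of_geomReduced_field (k k' : Type u) [Field k] [Field k'] [Algebra k k']
    [Algebra.IsGeometricallyReduced k k'] : EGA4.IsNormalHom k k' := by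
  refine ⟨inferInstance, fun p hp K _ _ hK => ?_⟩
  haveI : p.IsMaximal := by
    rw [(Ideal.eq_bot_or_top p).resolve_right hp.ne_top]
    exact Ideal.bot_isMaximal
  haveI : Module.Finite k p.ResidueField :=
    Module.Finite.of_surjective (Algebra.linearMap k p.ResidueField) (Ideal.algebraMap_residueField_surjective p)
  letI : Algebra k K := ((algebraMap p.ResidueField K).comp (algebraMap k p.ResidueField)).toAlgebra
  haveI : IsScalarTower k p.ResidueField K := .of_algebraMap_eq fun _ => rfl
  haveI : Module.Finite k K := Module.Finite.trans p.ResidueField K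
  haveI : IsReduced (K ⊗[k] k') := inferInstance
  haveI : IsArtinianRing (K ⊗[k] k') := by
    haveI : IsArtinianRing (k' ⊗[k] K) := IsArtinianRing.of_finite k' _
    exact (Algebra.TensorProduct.comm k k' K).toRingEquiv.isArtinianRing
  refine FlatDepth.isNormalRing_of_ringEquiv
    (Algebra.TensorProduct.cancelBaseChange k p.ResidueField p.ResidueField K k').toRingEquiv.symm fun P _ => ?_
  haveI : IsReduced (Localization.AtPrime P) := isReduced_localizationPreserves P.primeCompl _ ‹_›
  haveI : IsArtinianRing (Localization.AtPrime P) := inferInstance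
  letI := (IsArtinianRing.isField_of_isReduced_of_isLocalRing (Localization.AtPrime P)).toField
  exact ⟨inferInstance, inferInstance⟩

end Groth.Agent.NormalBC6
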