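import Groth.Agent.Lib.GRing6.CurveSlice
import Groth.Agent.Lib.CplDomain.Nagata
import Groth.Agent.Lib.CplDomain.Tower
import Groth.Agent.Lib.FlatDepth.CplMap
import Groth.Agent.Lib.CplLocH7.Basic
import Mathlib

/-! # A discrete valuation detecting non-integrality -/

set_option autoImplicit false
set_option linter.style.haveILetI false
universe u

open IsLocalRing Polynomial

namespace Groth.Agent.NormalBC6

noncomputable local instance (priority := high) cplAlgebraV (A : Type u) [CommRing A] [IsLocalRing A] :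
    Algebra A (EGA4.Cpl A) :=
  AdicCompletion.instAlgebra _

theorem isIntegral_of_mem_adjoin_inv {R F : Type u} [CommRing R] [Field F] [Algebra R F] {w : F}
    (h : w ∈ Algebra.adjoin R {w⁻¹}) : IsIntegral R w := by
  classical
  rcases eq_or_ne w 0 with rfl | hw
  · exact isIntegral_zero
  rw [Algebra.adjoin_singleton_eq_range_aeval] at h
  obtain ⟨p, hp⟩ := h
  have hp' : Polynomial.aeval w⁻¹ p = w := hp
  let m := p.natDegree
  let q : R[X] := ∑ i ∈ Finset.range (m + 1), C (p.coeff i) * X ^ (m - i)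
  have hq : q.degree ≤ m := by
    refine (Polynomial.degree_sum_le _ _).trans (Finset.sup_le fun i _ => ?_)
    exact (Polynomial.degree_C_mul_X_pow_le _ _).trans (Nat.cast_le.2 (Nat.sub_le m i))
  refine ⟨X ^ (m + 1) - q, Polynomial.monic_X_pow_sub (hq.trans_lt (Nat.cast_lt.2 (Nat.lt_succ_self m))), ?_⟩
  rw [← Polynomial.aeval_def, map_sub, map_pow, Polynomial.aeval_X, sub_eq_zero]
  conv_lhs => rw [pow_succ]; arg 2; rw [← hp', Polynomial.aeval_eq_sum_range]
  rw [Finset.mul_sum, map_sum]
  refine Finset.sum_congr rfl fun i hi => ?_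
  rw [map_mul, Polynomial.aeval_C, map_pow, Polynomial.aeval_X, mul_smul_comm, ← Algebra.smul_def]
  congr 1
  have hi' : i ≤ m := Nat.lt_succ_iff.1 (Finset.mem_range.1 hi)
  rw [inv_pow, pow_sub₀ w hw hi']

theorem exists_inv_mod_artinian {A : Type u} [CommRing A] [IsArtinianRing A] (s : A) :
    ∃ (N : ℕ) (a : A), s ^ N * (1 - s * a) = 0 := by
  obtain ⟨N, hN⟩ := IsArtinian.monotone_stabilizes
    (R := A) (M := A) ⟨fun n => OrderDual.toDual (Ideal.span {s ^ n}), fun i j hij => by
      show Ideal.span {s ^ j} ≤ Ideal.span {s ^ i}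
      exact Ideal.span_singleton_le_span_singleton.2 (pow_dvd_pow s hij)⟩
  have h : Ideal.span {s ^ N} = Ideal.span {s ^ (N + 1)} := hN (N + 1) (Nat.le_succ N)
  obtain ⟨a, ha⟩ := Ideal.mem_span_singleton'.1 (h ▸ Ideal.mem_span_singleton_self (s ^ N))
  refine ⟨N, a, ?_⟩
  rw [mul_sub, mul_one, ← mul_assoc, ← pow_succ, mul_comm (s ^ (N + 1)) a, ha, sub_self]

set_option maxHeartbeats 1000000 in
/-- A complete one-dimensional domain under the completion of a local ring with a principal ideal of finite colength. -/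
theorem exists_cpl_curve (R L : Type u) [CommRing R] [IsLocalRing R] [IsNoetherianRing R] [CommRing L] [IsDomain L]
    [IsLocalRing L] [IsNoetherianRing L] [Algebra R L] [IsLocalHom (algebraMap R L)] (x : L)
    (hxm : x ∈ maximalIdeal L) [Module.Finite R (L ⧸ Ideal.span {x})]
    (hmx : ∀ a ∈ maximalIdeal R, algebraMap R L a ∈ Ideal.span {x})
    (q₀ : R) (hq₀ : q₀ ∈ maximalIdeal R) (hq₀0 : algebraMap R L q₀ ≠ 0) :
    ∃ (W : Type u) (_ : CommRing W) (_ : IsDomain W) (_ : IsLocalRing W) (_ : IsNoetherianRing W)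
      (_ : IsAdicComplete (maximalIdeal W) W) (_ : Ring.DimensionLEOne W) (_ : Algebra (EGA4.Cpl R) W) (g : L →+* W),
      Module.Finite (EGA4.Cpl R) W ∧
      (∀ a : R, algebraMap (EGA4.Cpl R) W (algebraMap R (EGA4.Cpl R) a) = g (algebraMap R L a)) ∧
      ¬ IsUnit (g x) ∧ ∀ a : L, a ≠ 0 → g a ≠ 0 := by
  obtain ⟨algLR, htow, -⟩ := FlatDepth.exists_cpl_tower R L
  letI := algLR
  haveI : IsScalarTower R (EGA4.Cpl R) (EGA4.Cpl L) := htow
  haveI := CplLocH7.isNoetherianRing_cpl L
  haveI := CplLocH7.faithfullyFlat_cpl L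
  let LL := EGA4.Cpl L
  let uu := algebraMap L LL x
  have hpow : ∃ N, maximalIdeal L ^ N ≤ Ideal.span {x} := by
    refine Ideal.exists_pow_le_of_le_radical_of_fg ?_ (IsNoetherian.noetherian _)
    rw [Ideal.radical_eq_sInf]
    refine le_sInf fun P hP => ?_
    haveI := hP.2
    haveI : P.IsMaximal := by
      haveI : IsNoetherianRing (L ⧸ Ideal.span {x}) := inferInstance
      haveI : IsArtinianRing (L ⧸ Ideal.span {x}) := by
        have hmk : ∀ a ∈ maximalIdeal R, algebraMap R (L ⧸ Ideal.span {x}) a = 0 := fun a ha => by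
          rw [IsScalarTower.algebraMap_apply R L (L ⧸ Ideal.span {x}), Ideal.Quotient.algebraMap_eq,
            Ideal.Quotient.eq_zero_iff_mem]
          exact hmx a ha
        let k := ResidueField R
        letI : Algebra k (L ⧸ Ideal.span {x}) :=
          (Ideal.Quotient.lift (maximalIdeal R) (algebraMap R (L ⧸ Ideal.span {x})) hmk).toAlgebra
        haveI : IsScalarTower R k (L ⧸ Ideal.span {x}) := .of_algebraMap_eq fun _ => rfl
        haveI : Module.Finite k (L ⧸ Ideal.span {x}) := Module.Finite.of_restrictScalars_finite R k _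
        exact IsArtinianRing.of_finite k _
      haveI := Ideal.map_isPrime_of_surjective (f := Ideal.Quotient.mk (Ideal.span {x}))
        Ideal.Quotient.mk_surjective (by rw [Ideal.mk_ker]; exact hP.1 : RingHom.ker _ ≤ P)
      haveI h' : (P.map (Ideal.Quotient.mk (Ideal.span {x}))).IsMaximal := IsArtinianRing.isMaximal_of_isPrime _
      have h'' := Ideal.comap_isMaximal_of_surjective (Ideal.Quotient.mk (Ideal.span {x}))
        Ideal.Quotient.mk_surjective (K := P.map (Ideal.Quotient.mk (Ideal.span {x})))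
      rwa [Ideal.comap_map_of_surjective _ Ideal.Quotient.mk_surjective, ← RingHom.ker_eq_comap_bot, Ideal.mk_ker,
        sup_eq_left.2 hP.1] at h''
    rw [IsLocalRing.eq_maximalIdeal ‹P.IsMaximal›]
  obtain ⟨N, hN⟩ := hpow
  have happrox : ∀ x : LL, ∃ a : L, x - algebraMap L LL a ∈ Ideal.span {uu} := fun x => by
    obtain ⟨a, ha⟩ := CplLocH7.exists_sub_mem_pow (A := L) N x
    rw [CplLocH7.maximalIdeal_cpl, ← Ideal.map_pow] at ha
    refine ⟨a, ?_⟩
    have h1 := Ideal.map_mono (f := algebraMap L LL) hN ha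
    rwa [Ideal.map_span, Set.image_singleton] at h1
  haveI hfinLLu : Module.Finite R (LL ⧸ Ideal.span {uu}) := by
    let φ : L ⧸ Ideal.span {x} →ₐ[R] LL ⧸ Ideal.span {uu} :=
      Ideal.Quotient.liftₐ _ ((Ideal.Quotient.mkₐ R _).comp (IsScalarTower.toAlgHom R L LL)) fun a ha => by
        obtain ⟨b, rfl⟩ := Ideal.mem_span_singleton'.1 ha
        exact Ideal.Quotient.eq_zero_iff_mem.2 (by
          show algebraMap L LL (b * x) ∈ _
          rw [map_mul]; exact Ideal.mul_mem_left _ _ (Ideal.mem_span_singleton_self uu))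
    refine Module.Finite.of_surjective φ.toLinearMap fun z => ?_
    obtain ⟨z, rfl⟩ := Ideal.Quotient.mk_surjective z
    obtain ⟨a, ha⟩ := happrox z
    exact ⟨Ideal.Quotient.mk _ a, (Ideal.Quotient.eq.2 ha).symm⟩
  have hmk : ∀ a ∈ maximalIdeal R, algebraMap R (LL ⧸ Ideal.span {uu}) a = 0 := fun a ha => by
    obtain ⟨b, hb⟩ := Ideal.mem_span_singleton'.1 (hmx a ha)
    rw [IsScalarTower.algebraMap_apply R LL (LL ⧸ Ideal.span {uu}), Ideal.Quotient.algebraMap_eq,
      Ideal.Quotient.eq_zero_iff_mem, IsScalarTower.algebraMap_apply R L LL, ← hb, map_mul]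
    exact Ideal.mul_mem_left _ _ (Ideal.mem_span_singleton_self uu)
  have huu : uu ∈ maximalIdeal LL := by
    rw [CplLocH7.maximalIdeal_cpl]
    exact Ideal.mem_map_of_mem _ hxm
  haveI hArtLL : IsArtinianRing (LL ⧸ Ideal.span {uu}) := by
    let k := ResidueField R
    letI : Algebra k (LL ⧸ Ideal.span {uu}) :=
      (Ideal.Quotient.lift (maximalIdeal R) (algebraMap R (LL ⧸ Ideal.span {uu})) hmk).toAlgebra
    haveI : IsScalarTower R k (LL ⧸ Ideal.span {uu}) := .of_algebraMap_eq fun _ => rfl
    haveI : Module.Finite k (LL ⧸ Ideal.span {uu}) := Module.Finite.of_restrictScalars_finite R k _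
    exact IsArtinianRing.of_finite k _
  have hreg : ∀ a : L, a ≠ 0 → algebraMap L LL a ∈ nonZeroDivisors LL := fun a ha => by
    have h1 := IsSMulRegular.of_flat (S := LL) (fun x z h => mul_left_cancel₀ ha h : IsSMulRegular L a)
    refine mem_nonZeroDivisors_iff.2 ⟨fun z hz => h1 (?_ : algebraMap L LL a • z = algebraMap L LL a • (0 : LL)),
      fun z hz => h1 (?_ : algebraMap L LL a • z = algebraMap L LL a • (0 : LL))⟩
    · rw [smul_eq_mul, smul_zero]; exact hz
    · rw [smul_eq_mul, smul_zero, mul_comm]; exact hz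
  obtain ⟨P, hP⟩ := Ideal.nonempty_minimalPrimes (show (⊥ : Ideal LL) ≠ ⊤ from bot_ne_top)
  haveI hP1 : P.IsPrime := hP.1.1
  have hnotP : ∀ a : L, a ≠ 0 → algebraMap L LL a ∉ P := fun a ha hmem =>
    Set.disjoint_left.1 (Ideal.disjoint_nonZeroDivisors_of_mem_minimalPrimes (R := LL) hP) hmem (hreg a ha)
  let W := LL ⧸ P
  haveI : IsLocalRing W := IsLocalRing.of_surjective' (Ideal.Quotient.mk P) Ideal.Quotient.mk_surjective
  haveI : IsAdicComplete (maximalIdeal LL) LL := by
    rw [CplLocH7.maximalIdeal_cpl]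
    exact (IsAdicComplete.map_algebraMap_iff _ _).2 (AdicCompletion.isAdicComplete (IsNoetherian.noetherian _))
  haveI : IsAdicComplete (maximalIdeal W) W := by
    obtain ⟨_, hcW⟩ := CplDomain.completeLocal_of_finite LL W
    exact hcW
  have hdim1 : Ring.DimensionLEOne W := by
    have h0 : ringKrullDim (LL ⧸ Ideal.span {uu}) ≤ 0 := Ring.krullDimLE_iff.1 inferInstance
    have h1 : ringKrullDim LL ≤ ringKrullDim (LL ⧸ Ideal.span {uu}) + 1 := by
      have := ringKrullDim_le_ringKrullDim_quotient_add_encard ({uu} : Set LL)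
        (by rw [IsLocalRing.ringJacobson_eq_maximalIdeal]; simpa using huu)
      simpa [Set.encard_singleton] using this
    have h2 : ringKrullDim W ≤ 1 :=
      ((ringKrullDim_le_of_surjective (Ideal.Quotient.mk P) Ideal.Quotient.mk_surjective).trans h1).trans
        (by simpa using add_le_add h0 (le_refl (1 : WithBot ℕ∞)))
    haveI : Ring.KrullDimLE 1 W := Ring.krullDimLE_iff.2 h2
    exact ⟨fun {I} hI hIp => hIp.isMaximal_of_ne_bot hI⟩
  haveI := hdim1
  let qW : W := Ideal.Quotient.mk P (algebraMap R LL q₀)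
  have hqW : qW ≠ 0 := fun h => by
    have h1 := Ideal.Quotient.eq_zero_iff_mem.1 h
    rw [IsScalarTower.algebraMap_apply R L LL] at h1
    exact hnotP _ hq₀0 h1
  haveI : Module.Finite (EGA4.Cpl R) W := by
    haveI := CplLocH7.isNoetherianRing_cpl R
    haveI : IsAdicComplete (maximalIdeal (EGA4.Cpl R)) (EGA4.Cpl R) := by
      rw [CplLocH7.maximalIdeal_cpl]
      exact (IsAdicComplete.map_algebraMap_iff _ _).2 (AdicCompletion.isAdicComplete (IsNoetherian.noetherian _))
    let I := (maximalIdeal (EGA4.Cpl R)).map (algebraMap (EGA4.Cpl R) W)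
    have hI : I = (maximalIdeal R).map (algebraMap R W) := by
      show ((maximalIdeal (EGA4.Cpl R)).map (algebraMap (EGA4.Cpl R) W)) = _
      rw [CplLocH7.maximalIdeal_cpl, Ideal.map_map, ← IsScalarTower.algebraMap_eq]
    have hqI : qW ∈ I := hI ▸ Ideal.mem_map_of_mem (algebraMap R W) hq₀
    have hIle : I ≤ maximalIdeal W := by
      rw [hI, Ideal.map_le_iff_le_comap]
      intro a ha
      show algebraMap R W a ∈ maximalIdeal W
      rw [IsScalarTower.algebraMap_apply R LL W, Ideal.Quotient.algebraMap_eq,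
        ← IsLocalRing.map_maximalIdeal_of_surjective (Ideal.Quotient.mk P) Ideal.Quotient.mk_surjective]
      refine Ideal.mem_map_of_mem _ ((Ideal.span_singleton_le_iff_mem _).2 huu ?_)
      exact Ideal.Quotient.eq_zero_iff_mem.1
        ((IsScalarTower.algebraMap_apply R LL (LL ⧸ Ideal.span {uu}) a).symm.trans (hmk a ha))
    haveI : IsLocalRing (W ⧸ I) :=
      haveI := Ideal.Quotient.nontrivial_iff.2 (ne_top_of_le_ne_top (maximalIdeal.isMaximal W).ne_top hIle)
      IsLocalRing.of_surjective' (Ideal.Quotient.mk I) Ideal.Quotient.mk_surjective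
    haveI : IsArtinianRing (W ⧸ I) := by
      refine isArtinianRing_iff_krullDimLE_zero.2 (Ring.KrullDimLE.mk₀ fun p hp => ?_)
      let p' := p.comap (Ideal.Quotient.mk I)
      have hIp : I ≤ p' := fun x hx => by
        show Ideal.Quotient.mk I x ∈ p
        rw [Ideal.Quotient.eq_zero_iff_mem.2 hx]; exact p.zero_mem
      have hp0 : p' ≠ ⊥ := fun h => hqW (by simpa [h] using hIp hqI)
      haveI : p'.IsMaximal := Ideal.IsPrime.isMaximal inferInstance hp0
      rw [← Ideal.map_comap_of_surjective (Ideal.Quotient.mk I) Ideal.Quotient.mk_surjective p]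
      exact Ideal.IsMaximal.map_of_surjective_of_ker_le Ideal.Quotient.mk_surjective (by rw [Ideal.mk_ker]; exact hIp)
    haveI : Module.Finite R (W ⧸ I) := by
      let T' := W ⧸ I
      haveI : Module.Finite R (T' ⧸ Ring.jacobson T') := by
        let g : LL →ₐ[R] T' ⧸ Ring.jacobson T' :=
          (Ideal.Quotient.mkₐ R _).comp ((Ideal.Quotient.mkₐ R I).comp (Ideal.Quotient.mkₐ R P))
        let φ : LL ⧸ Ideal.span {uu} →ₐ[R] T' ⧸ Ring.jacobson T' := Ideal.Quotient.liftₐ _ g fun a ha => by
          show Ideal.Quotient.mk (Ring.jacobson T') (Ideal.Quotient.mk I (Ideal.Quotient.mk P a)) = 0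
          rw [Ideal.Quotient.eq_zero_iff_mem, IsLocalRing.ringJacobson_eq_maximalIdeal,
            ← IsLocalRing.map_maximalIdeal_of_surjective ((Ideal.Quotient.mk I).comp (Ideal.Quotient.mk P))
              (Ideal.Quotient.mk_surjective.comp Ideal.Quotient.mk_surjective)]
          exact Ideal.mem_map_of_mem _ ((Ideal.span_singleton_le_iff_mem _).2 huu ha)
        refine Module.Finite.of_surjective φ.toLinearMap fun z => ?_
        obtain ⟨z, rfl⟩ := Ideal.Quotient.mk_surjective z
        obtain ⟨z, rfl⟩ := Ideal.Quotient.mk_surjective z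
        obtain ⟨z, rfl⟩ := Ideal.Quotient.mk_surjective z
        exact ⟨Ideal.Quotient.mk _ z, rfl⟩
      exact IsSemiprimaryRing.finite_of_isArtinian R T' T'
    haveI : Module.Finite (EGA4.Cpl R) (W ⧸ I) := Module.Finite.of_restrictScalars_finite R _ _
    haveI : IsHausdorff I W := IsHausdorff.of_le_jacobson I W (hIle.trans (maximalIdeal_le_jacobson ⊥))
    exact CplDomain.finite_of_reduction (maximalIdeal (EGA4.Cpl R))
  refine ⟨W, inferInstance, inferInstance, inferInstance, inferInstance, inferInstance, inferInstance,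
    inferInstance, (Ideal.Quotient.mk P).comp (algebraMap L LL), inferInstance, fun a => ?_, fun h => ?_,
    fun a ha h => hnotP a ha (Ideal.Quotient.eq_zero_iff_mem.1 h)⟩
  · rw [IsScalarTower.algebraMap_apply (EGA4.Cpl R) LL W, ← IsScalarTower.algebraMap_apply R (EGA4.Cpl R) LL,
      IsScalarTower.algebraMap_apply R L LL]
    rfl
  · haveI : IsLocalHom (Ideal.Quotient.mk P) := IsLocalHom.of_surjective _ Ideal.Quotient.mk_surjective
    exact (mem_maximalIdeal _).1 huu ((isUnit_map_iff (Ideal.Quotient.mk P) uu).1 h)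

set_option maxHeartbeats 1000000 in
/-- The same, for a finitely generated domain. -/
theorem exists_cpl_curve_of_algebra (R S : Type u) [CommRing R] [IsLocalRing R] [IsNoetherianRing R] [CommRing S]
    [IsDomain S] [IsNoetherianRing S] [Algebra R S] (u : S) (hu0 : u ≠ 0) (hunit : ¬ IsUnit u)
    [Module.Finite R (S ⧸ Ideal.span {u})] (hmu : ∀ a ∈ maximalIdeal R, algebraMap R S a ∈ Ideal.span {u})
    (q₀ : R) (hq₀ : q₀ ∈ maximalIdeal R) (hq₀0 : algebraMap R S q₀ ≠ 0) :
    ∃ (W : Type u) (_ : CommRing W) (_ : IsDomain W) (_ : IsLocalRing W) (_ : IsNoetherianRing W)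
      (_ : IsAdicComplete (maximalIdeal W) W) (_ : Ring.DimensionLEOne W) (_ : Algebra (EGA4.Cpl R) W) (g : S →+* W),
      Module.Finite (EGA4.Cpl R) W ∧
      (∀ a : R, algebraMap (EGA4.Cpl R) W (algebraMap R (EGA4.Cpl R) a) = g (algebraMap R S a)) ∧
      ¬ IsUnit (g u) ∧ ∀ a : S, a ≠ 0 → g a ≠ 0 := by
  obtain ⟨n, hn, hun⟩ := Ideal.exists_le_maximal (Ideal.span {u}) (by rwa [Ne, Ideal.span_singleton_eq_top])
  haveI := hn.isPrime
  have hun' : u ∈ n := hun (Ideal.mem_span_singleton_self u)
  let L := Localization.AtPrime n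
  haveI : IsNoetherianRing L := IsLocalization.isNoetherianRing n.primeCompl L inferInstance
  haveI : IsDomain L := IsLocalization.isDomain_localization n.primeCompl_le_nonZeroDivisors
  haveI : IsLocalHom (algebraMap R L) := ⟨fun a ha => by
    by_contra hna
    rw [IsScalarTower.algebraMap_apply R S L] at ha
    exact (IsLocalization.AtPrime.isUnit_to_map_iff L n _).1 ha (hun (hmu a hna))⟩
  let ū := algebraMap S L u
  let e₀ : S →ₐ[R] L ⧸ Ideal.span {ū} := (Ideal.Quotient.mkₐ R _).comp (IsScalarTower.toAlgHom R S L)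
  haveI hArt : IsArtinianRing (S ⧸ Ideal.span {u}) := by
    let k := ResidueField R
    letI : Algebra k (S ⧸ Ideal.span {u}) :=
      (Ideal.Quotient.lift (maximalIdeal R) (algebraMap R (S ⧸ Ideal.span {u})) fun a ha =>
        (Ideal.Quotient.eq_zero_iff_mem.2 (hmu a ha))).toAlgebra
    haveI : IsScalarTower R k (S ⧸ Ideal.span {u}) := .of_algebraMap_eq fun _ => rfl
    haveI : Module.Finite k (S ⧸ Ideal.span {u}) := Module.Finite.of_restrictScalars_finite R k _
    exact IsArtinianRing.of_finite k _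
  haveI hfinLu : Module.Finite R (L ⧸ Ideal.span {ū}) := by
    let φ : S ⧸ Ideal.span {u} →ₐ[R] L ⧸ Ideal.span {ū} := Ideal.Quotient.liftₐ _ e₀ fun a ha => by
      obtain ⟨b, rfl⟩ := Ideal.mem_span_singleton'.1 ha
      exact Ideal.Quotient.eq_zero_iff_mem.2 (by
        show algebraMap S L (b * u) ∈ _
        rw [map_mul]; exact Ideal.mul_mem_left _ _ (Ideal.mem_span_singleton_self ū))
    refine Module.Finite.of_surjective φ.toLinearMap fun z => ?_
    obtain ⟨z, rfl⟩ := Ideal.Quotient.mk_surjective z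
    obtain ⟨x, s, rfl⟩ := IsLocalization.exists_mk'_eq n.primeCompl z
    obtain ⟨N, a, ha⟩ := exists_inv_mod_artinian (Ideal.Quotient.mk (Ideal.span {u}) (s : S))
    obtain ⟨a, rfl⟩ := Ideal.Quotient.mk_surjective a
    refine ⟨Ideal.Quotient.mk _ (x * a), (Ideal.Quotient.eq.2 ?_)⟩
    show algebraMap S L (x * a) - IsLocalization.mk' L x s ∈ _
    have h1 : (s : S) ^ N * (1 - (s : S) * a) ∈ Ideal.span {u} := by
      rw [← Ideal.Quotient.eq_zero_iff_mem, map_mul, map_pow, map_sub, map_one, map_mul]; exact ha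
    have h2 : algebraMap S L (1 - (s : S) * a) ∈ Ideal.span {ū} := by
      obtain ⟨b, hb⟩ := Ideal.mem_span_singleton'.1 h1
      have h3 : algebraMap S L ((s : S) ^ N) * algebraMap S L (1 - (s : S) * a) ∈ Ideal.span {ū} := by
        rw [← map_mul, ← hb, map_mul]; exact Ideal.mul_mem_left _ _ (Ideal.mem_span_singleton_self ū)
      exact (Ideal.unit_mul_mem_iff_mem _ ((map_pow (algebraMap S L) (s : S) N).symm ▸
        (IsLocalization.map_units L s).pow N)).1 h3
    rw [← Ideal.unit_mul_mem_iff_mem _ (IsLocalization.map_units L s), mul_sub, IsLocalization.mk'_spec', ← map_mul,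
      ← map_sub, show (s : S) * (x * a) - x = -(x * (1 - (s : S) * a)) by ring, map_neg, Ideal.neg_mem_iff, map_mul]
    exact Ideal.mul_mem_left _ _ h2
  have hne : ∀ a : S, a ≠ 0 → algebraMap S L a ≠ 0 := fun a ha h =>
    ha (IsLocalization.injective L n.primeCompl_le_nonZeroDivisors (h.trans (map_zero _).symm))
  obtain ⟨W, i1, i2, i3, i4, i5, i6, i7, g, hfinW, hg, huWn, hgne⟩ := exists_cpl_curve R L ū
    ((IsLocalization.AtPrime.to_map_mem_maximal_iff L n u).2 hun') (fun a ha => by
      obtain ⟨b, hb⟩ := Ideal.mem_span_singleton'.1 (hmu a ha)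
      rw [IsScalarTower.algebraMap_apply R S L, ← hb, map_mul]
      exact Ideal.mul_mem_left _ _ (Ideal.mem_span_singleton_self ū)) q₀ hq₀
    (by rw [IsScalarTower.algebraMap_apply R S L]; exact hne _ hq₀0)
  exact ⟨W, i1, i2, i3, i4, i5, i6, i7, g.comp (algebraMap S L), hfinW,
    fun a => (hg a).trans (congrArg g (IsScalarTower.algebraMap_apply R S L a)), huWn,
    fun a ha => hgne _ (hne a ha)⟩

set_option maxHeartbeats 1000000 in
/-- A complete discrete valuation ring, finite over the completion, in which `c` does not divide `y`. -/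
theorem exists_dvr (R : Type u) [CommRing R] [IsDomain R] [IsLocalRing R] [IsNoetherianRing R] (c y : R) (hc : c ≠ 0)
    (hy : ¬ IsIntegral R (algebraMap R (FractionRing R) y / algebraMap R (FractionRing R) c))
    (hQ : ∀ q ∈ maximalIdeal R,
      IsIntegral R (algebraMap R (FractionRing R) (q * y) / algebraMap R (FractionRing R) c)) :
    ∃ (V : Type u) (_ : CommRing V) (_ : IsDomain V) (_ : IsDiscreteValuationRing V) (_ : Algebra (EGA4.Cpl R) V),
      Module.Finite (EGA4.Cpl R) V ∧
      algebraMap (EGA4.Cpl R) V (algebraMap R (EGA4.Cpl R) c) ≠ 0 ∧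
      ¬ algebraMap (EGA4.Cpl R) V (algebraMap R (EGA4.Cpl R) c) ∣
        algebraMap (EGA4.Cpl R) V (algebraMap R (EGA4.Cpl R) y) := by
  classical
  let F := FractionRing R
  let ι := algebraMap R F
  have hιc : ι c ≠ 0 := (map_ne_zero_iff ι (IsFractionRing.injective R F)).2 hc
  let w : F := ι y / ι c
  have hw0 : w ≠ 0 := fun h => hy (by rw [show ι y / ι c = 0 from h]; exact isIntegral_zero)
  obtain ⟨G, hG⟩ := (IsNoetherian.noetherian (maximalIdeal R) : (maximalIdeal R).FG)
  obtain ⟨q₀, hq₀, hq₀0⟩ : ∃ q ∈ maximalIdeal R, q ≠ 0 := by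
    by_contra hcon
    push Not at hcon
    refine hy ?_
    have hcu : IsUnit c := notMem_maximalIdeal.1 fun h => hc (hcon c h)
    obtain ⟨c', hc'⟩ := hcu.exists_right_inv
    have : ι y / ι c = ι (y * c') := by
      rw [div_eq_iff hιc, ← map_mul, mul_assoc, mul_comm c' c, hc', mul_one]
    rw [this]
    exact isIntegral_algebraMap
  let T : Subalgebra R F := Algebra.adjoin R ((fun q => ι q * w) '' (G : Set R))
  haveI hTfin : Module.Finite R T := Module.Finite.iff_fg.2 (fg_adjoin_of_finite
    (G.finite_toSet.image _) (by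
      rintro _ ⟨q, hq, rfl⟩
      have := hQ q (hG ▸ Submodule.subset_span hq)
      rwa [map_mul, mul_div_assoc] at this))
  have hTq : ∀ q ∈ maximalIdeal R, ι q * w ∈ T := by
    intro q hq
    rw [← hG] at hq
    induction hq using Submodule.span_induction with
    | mem x hx => exact Algebra.subset_adjoin ⟨x, hx, rfl⟩
    | zero => rw [map_zero, zero_mul]; exact zero_mem _
    | add a b _ _ ha hb => rw [map_add, add_mul]; exact add_mem ha hb
    | smul r a _ ha => rw [smul_eq_mul, map_mul, mul_assoc]; exact T.mul_mem (T.algebraMap_mem r) ha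
  let S : Subalgebra R F := Algebra.adjoin R (insert w⁻¹ ((fun q => ι q * w) '' (G : Set R)))
  have hTS : T ≤ S := Algebra.adjoin_mono (Set.subset_insert _ _)
  haveI : Algebra.FiniteType R S := (Subalgebra.fg_iff_finiteType S).1
    (Subalgebra.fg_adjoin_finset ((G.image fun q => ι q * w) |> insert w⁻¹) |> fun h => by
      simpa [S, Finset.coe_insert, Finset.coe_image] using h)
  haveI : IsNoetherianRing S := Algebra.FiniteType.isNoetherianRing R S
  let u : S := ⟨w⁻¹, Algebra.subset_adjoin (Set.mem_insert _ _)⟩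
  have hu0 : u ≠ 0 := fun h => inv_ne_zero hw0 (congrArg Subtype.val h)
  have hunit : ¬ IsUnit u := by
    intro hu
    obtain ⟨v, hv⟩ := hu.exists_right_inv
    have hv' : w⁻¹ * (v : F) = 1 := congrArg Subtype.val hv
    have hwv : w = v := by
      rw [inv_mul_eq_one₀ hw0] at hv'
      exact hv'
    have hle : S ≤ (Algebra.adjoin T ({w⁻¹} : Set F)).restrictScalars R := by
      refine Algebra.adjoin_le ?_
      rintro x (rfl | hx)
      · exact Algebra.subset_adjoin (Set.mem_singleton _)
      · exact Subalgebra.algebraMap_mem (Algebra.adjoin T ({w⁻¹} : Set F)) (⟨x, Algebra.subset_adjoin hx⟩ : T)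
    have hwT : IsIntegral T w := isIntegral_of_mem_adjoin_inv (hle (hwv ▸ v.2 : w ∈ S))
    haveI : Algebra.IsIntegral R T := Algebra.IsIntegral.of_finite R T
    exact hy (isIntegral_trans (A := T) w hwT)
  have hmu : ∀ q ∈ maximalIdeal R, algebraMap R S q ∈ Ideal.span {u} := fun q hq =>
    Ideal.mem_span_singleton'.2 ⟨⟨ι q * w, hTS (hTq q hq)⟩,
      Subtype.ext (show ι q * w * w⁻¹ = ι q by rw [mul_assoc, mul_inv_cancel₀ hw0, mul_one])⟩
  haveI hfinSu : Module.Finite R (S ⧸ Ideal.span {u}) := by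
    refine Module.Finite.of_surjective
      ((Ideal.Quotient.mkₐ R (Ideal.span {u})).comp (Subalgebra.inclusion hTS)).toLinearMap ?_
    intro z
    obtain ⟨⟨x, hx⟩, rfl⟩ := Ideal.Quotient.mk_surjective z
    have hmem : (Ideal.Quotient.mk (Ideal.span {u}) (⟨x, hx⟩ : S)) ∈
        ((Ideal.Quotient.mkₐ R (Ideal.span {u})).comp (Subalgebra.inclusion hTS)).range := by
      induction hx using Algebra.adjoin_induction with
      | mem t ht =>
        rcases ht with rfl | ht
        · exact ⟨0, by rw [map_zero]; exact (Ideal.Quotient.eq_zero_iff_mem.2 (Ideal.mem_span_singleton_self u)).symm⟩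
        · exact ⟨⟨t, Algebra.subset_adjoin ht⟩, rfl⟩
      | algebraMap r => exact ⟨algebraMap R T r, rfl⟩
      | add a b ha hb h1 h2 =>
        have e : (⟨a + b, Subalgebra.add_mem _ ha hb⟩ : S) = ⟨a, ha⟩ + ⟨b, hb⟩ := rfl
        rw [e, map_add]; exact add_mem h1 h2
      | mul a b ha hb h1 h2 =>
        have e : (⟨a * b, Subalgebra.mul_mem _ ha hb⟩ : S) = ⟨a, ha⟩ * ⟨b, hb⟩ := rfl
        rw [e, map_mul]; exact mul_mem h1 h2
    exact hmem
  have hinjRS : ∀ a : R, a ≠ 0 → algebraMap R S a ≠ 0 := fun a ha h3 =>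
    ha (IsFractionRing.injective R F ((congrArg Subtype.val h3).trans (map_zero ι).symm))
  obtain ⟨W, _, _, _, _, _, _, _, g, hfinW, hg, huWn, hgne⟩ :=
    exists_cpl_curve_of_algebra R S u hu0 hunit hmu q₀ hq₀ (hinjRS q₀ hq₀0)
  haveI := hfinW
  have huW : g u ≠ 0 := hgne u hu0
  let K := FractionRing W
  let V := integralClosure W K
  haveI : Module.Finite W V := CplDomain.isN2_of_complete W K inferInstance
  haveI : IsFractionRing V K := integralClosure.isFractionRing_of_finite_extension K K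
  haveI : IsNoetherianRing V := IsNoetherianRing.of_finite W V
  haveI : IsIntegrallyClosed V := integralClosure.isIntegrallyClosedOfFiniteExtension K
  haveI : Ring.DimensionLEOne V := Ring.DimensionLEOne.of_isIntegral W V
  haveI : IsDedekindDomain V := { }
  obtain ⟨_, -⟩ := CplDomain.completeLocal_of_finite W V
  haveI : Algebra.IsIntegral W V := Algebra.IsIntegral.of_finite W V
  have hinj : Function.Injective (algebraMap W V) := fun a b h =>
    IsFractionRing.injective W K (congrArg Subtype.val h)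
  let uW : W := g u
  haveI : IsLocalHom (algebraMap W V) := ⟨fun a ha => by
    by_contra hna
    obtain ⟨Q', -, hQ', hQW⟩ := Ideal.exists_ideal_over_prime_of_isIntegral (maximalIdeal W) (⊥ : Ideal V) (by
      intro x hx
      obtain rfl : x = 0 := hinj (by rw [map_zero]; exact Ideal.mem_bot.1 hx)
      exact zero_mem _)
    exact hQ'.ne_top (Ideal.eq_top_of_isUnit_mem _ (show algebraMap W V a ∈ Q' from
      (hQW.ge hna : a ∈ Q'.comap (algebraMap W V))) ha)⟩
  have hVu : ¬ IsUnit (algebraMap W V uW) := fun h => huWn (isUnit_of_map_unit _ _ h)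
  have hnf : ¬ IsField V := fun hF => by
    obtain ⟨b, hb⟩ := hF.mul_inv_cancel ((map_ne_zero_iff _ hinj).2 huW)
    exact hVu (IsUnit.of_mul_eq_one b hb)
  haveI : IsDiscreteValuationRing V := ((IsDiscreteValuationRing.TFAE V hnf).out 2 0).mp (show IsDedekindDomain V from inferInstance)
  letI : Algebra (EGA4.Cpl R) V := ((algebraMap W V).comp (algebraMap (EGA4.Cpl R) W)).toAlgebra
  haveI : IsScalarTower (EGA4.Cpl R) W V := .of_algebraMap_eq fun _ => rfl
  have hcuy : algebraMap R S c = u * algebraMap R S y := Subtype.ext (by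
    show ι c = w⁻¹ * ι y
    rw [inv_div, div_mul_cancel₀]
    exact fun h => hw0 (by simp [w, h]))
  have hπ : ∀ a : R, algebraMap (EGA4.Cpl R) V (algebraMap R (EGA4.Cpl R) a) = algebraMap W V (g (algebraMap R S a)) :=
    fun a => congrArg (algebraMap W V) (hg a)
  have hprod : g (algebraMap R S c) = uW * g (algebraMap R S y) := by
    rw [hcuy, map_mul]
  have hc0 : algebraMap W V (g (algebraMap R S c)) ≠ 0 := (map_ne_zero_iff _ hinj).2 (hgne _ (hinjRS c hc))
  refine ⟨V, inferInstance, inferInstance, inferInstance, inferInstance, Module.Finite.trans W V, ?_, ?_⟩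
  · rw [hπ]; exact hc0
  · rw [hπ, hπ]
    rintro ⟨b, hb⟩
    have hy0 : algebraMap W V (g (algebraMap R S y)) ≠ 0 := fun h => hc0 (by rw [hprod, map_mul, h, mul_zero])
    refine hVu (IsUnit.of_mul_eq_one b (mul_left_cancel₀ hy0 ?_))
    rw [mul_one]
    conv_rhs => rw [hb, hprod, map_mul]
    ring

end Groth.Agent.NormalBC6
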