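import Groth.Agent.Lib.NormalBC6.IntDiv
import Groth.Agent.Lib.NormalBC6.Valuation
import Groth.Agent.Lib.GRing6.ClosedFibre
import Mathlib

/-! # Integral closures of principal ideals along flat maps with geometrically reduced fibres -/

set_option autoImplicit false
set_option linter.style.haveILetI false
universe u

open IsLocalRing TensorProduct

namespace Groth.Agent.NormalBC6

noncomputable local instance (priority := high) cplAlgebraD (A : Type u) [CommRing A] [IsLocalRing A] :
    Algebra A (EGA4.Cpl A) :=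
  AdicCompletion.instAlgebra _

/-- The integral closure of the ideal generated by `c`. -/
noncomputable def icIdeal (D : Type u) [CommRing D] [IsDomain D] (c : D) : Ideal D :=
  (Subalgebra.toSubmodule (integralClosure D (FractionRing D))).comap
    ((LinearMap.mulRight D (algebraMap D (FractionRing D) c)⁻¹).comp (Algebra.linearMap D (FractionRing D)))

theorem mem_icIdeal {D : Type u} [CommRing D] [IsDomain D] {c : D} (hc : c ≠ 0) {y : D} :
    y ∈ icIdeal D c ↔ IntDiv c y := by
  have hc' : algebraMap D (FractionRing D) c ≠ 0 :=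
    (map_ne_zero_iff _ (IsFractionRing.injective D _)).2 hc
  show IsIntegral D (algebraMap D (FractionRing D) y * (algebraMap D (FractionRing D) c)⁻¹) ↔ _
  exact ⟨fun h => IntDiv.of_isIntegral (IsFractionRing.injective D _) h (inv_mul_cancel_right₀ hc' _),
    fun h => h.isIntegral (isUnit_iff_ne_zero.2 hc') (inv_mul_cancel_right₀ hc' _)⟩

/-- Multiples. -/
theorem IntDiv.mul_left {W : Type u} [CommRing W] {c y : W} (h : IntDiv c y) (e : W) : IntDiv c (e * y) := by
  obtain ⟨n, r, h⟩ := h
  refine ⟨n, fun i => r i * e ^ (n - i), ?_⟩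
  have he := congrArg (e ^ n * ·) h
  simp only [mul_add, mul_zero, Finset.mul_sum] at he
  rw [← he, mul_pow]
  congr 1
  refine Finset.sum_congr rfl fun i hi => ?_
  conv_rhs => rw [← Nat.sub_add_cancel (Finset.mem_range.1 hi).le, pow_add, Nat.sub_add_cancel (Finset.mem_range.1 hi).le]
  rw [mul_pow]
  ring

/-- Integrality over a principal ideal, cleared of denominators. -/
theorem IntDiv.of_localization {D R : Type u} [CommRing D] [CommRing R] [Algebra D R] (S : Submonoid D)
    [IsLocalization S R] (hinj : Function.Injective (algebraMap D R)) {c y : D}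
    (h : IntDiv (algebraMap D R c) (algebraMap D R y)) : ∃ s ∈ S, IntDiv c (s * y) := by
  obtain ⟨n, r, h⟩ := h
  obtain ⟨s, hs⟩ := IsLocalization.exist_integer_multiples S (Finset.range n) r
  choose! a ha using hs
  refine ⟨s, s.2, n, fun i => a i * (s : D) ^ (n - i - 1), hinj ?_⟩
  rw [map_zero, map_add, map_sum]
  have h' : algebraMap D R ((s : D) ^ n) * (algebraMap D R y ^ n + ∑ i ∈ Finset.range n,
      r i * algebraMap D R c ^ (n - i) * algebraMap D R y ^ i) = 0 := by rw [h, mul_zero]
  rw [mul_add, Finset.mul_sum] at h'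
  rw [← h']
  congr 1
  · simp [mul_pow]
  · refine Finset.sum_congr rfl fun i hi => ?_
    have hai : algebraMap D R (a i) = algebraMap D R (s : D) * r i := (ha i hi).trans (Algebra.smul_def _ _)
    have hin : i < n := Finset.mem_range.1 hi
    simp only [map_mul, map_pow, hai, mul_pow]
    conv_rhs => rw [show n = 1 + (n - i - 1) + i by omega, pow_add, pow_add, pow_one,
      show 1 + (n - i - 1) + i - i = n - i by omega]
    ring

/-- A discrete valuation ring over `R` with nonzero image of `c` and small residue field. -/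
structure Det (R : Type u) [CommRing R] [IsLocalRing R] (c : R) : Type (u + 1) where
  V : Type u
  [ring : CommRing V]
  [dom : IsDomain V]
  [dvr : IsDiscreteValuationRing V]
  [alg : Algebra R V]
  ne : algebraMap R V c ≠ 0
  [fin : Module.Finite R (IsLocalRing.ResidueField V)]

attribute [instance] Det.ring Det.dom Det.dvr Det.alg Det.fin

theorem exists_det (R : Type u) [CommRing R] [IsDomain R] [IsLocalRing R] [IsNoetherianRing R] (c y : R) (hc : c ≠ 0)
    (hy : ¬ IntDiv c y) (hQ : ∀ q ∈ maximalIdeal R, IntDiv c (q * y)) :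
    ∃ d : Det R c, ¬ algebraMap R d.V c ∣ algebraMap R d.V y := by
  have hc' : algebraMap R (FractionRing R) c ≠ 0 := (map_ne_zero_iff _ (IsFractionRing.injective R _)).2 hc
  obtain ⟨V, _, _, _, _, hfin, hne, hnd⟩ := exists_dvr R c y hc
    (fun h => hy (IntDiv.of_isIntegral (IsFractionRing.injective R _) h (div_mul_cancel₀ _ hc')))
    (fun q hq => (hQ q hq).isIntegral (isUnit_iff_ne_zero.2 hc') (div_mul_cancel₀ _ hc'))
  letI : Algebra R V := ((algebraMap (EGA4.Cpl R) V).comp (algebraMap R (EGA4.Cpl R))).toAlgebra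
  haveI : IsScalarTower R (EGA4.Cpl R) V := .of_algebraMap_eq fun _ => rfl
  haveI := hfin
  haveI : Module.Finite R (ResidueField V) := by
    haveI : Module.Finite (EGA4.Cpl R) (ResidueField V) :=
      Module.Finite.of_surjective (IsScalarTower.toAlgHom (EGA4.Cpl R) V (ResidueField V)).toLinearMap
        IsLocalRing.residue_surjective
    have hker : RingHom.ker (algebraMap (EGA4.Cpl R) (ResidueField V)) = maximalIdeal (EGA4.Cpl R) :=
      IsLocalRing.eq_maximalIdeal (GRing6.isMaximal_ker_finite_field _ _)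
    let k' := EGA4.Cpl R ⧸ maximalIdeal (EGA4.Cpl R)
    haveI : Module.Finite R k' := by
      refine Module.Finite.of_surjective (Algebra.linearMap R k') fun z => ?_
      obtain ⟨x, rfl⟩ := Ideal.Quotient.mk_surjective z
      obtain ⟨a, ha⟩ := CplLocH7.exists_sub_mem_pow (A := R) 1 x
      rw [pow_one] at ha
      exact ⟨a, (Ideal.Quotient.eq.2 ha).symm⟩
    letI : Algebra k' (ResidueField V) :=
      (Ideal.Quotient.lift (maximalIdeal (EGA4.Cpl R)) (algebraMap (EGA4.Cpl R) (ResidueField V)) fun x hx =>
        (hker.ge hx : x ∈ RingHom.ker _)).toAlgebra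
    haveI : IsScalarTower (EGA4.Cpl R) k' (ResidueField V) := .of_algebraMap_eq fun _ => rfl
    haveI : IsScalarTower R k' (ResidueField V) := .of_algebraMap_eq fun _ => rfl
    haveI : Module.Finite k' (ResidueField V) := Module.Finite.of_restrictScalars_finite (EGA4.Cpl R) k' _
    exact Module.Finite.trans k' _
  exact ⟨{ V := V, ne := hne }, hnd⟩

/-- Finitely many valuations detect integrality over `c` on the socle. -/
theorem exists_local_detect (R : Type u) [CommRing R] [IsDomain R] [IsLocalRing R] [IsNoetherianRing R] (c : R)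
    (hc : c ≠ 0) :
    ∃ (n : ℕ) (d : Fin n → Det R c), ∀ y : R, (∀ q ∈ maximalIdeal R, IntDiv c (q * y)) →
      (∀ i, algebraMap R (d i).V c ∣ algebraMap R (d i).V y) → IntDiv c y := by
  let M := R ⧸ icIdeal R c
  let U : Submodule R M := Submodule.torsionBySet R M (maximalIdeal R : Set R)
  haveI : IsArtinian R U := by
    have ht : Module.IsTorsionBySet R U (maximalIdeal R : Set R) := Submodule.torsionBySet_isTorsionBySet _
    letI := ht.module
    haveI : IsScalarTower R (R ⧸ maximalIdeal R) U := ht.isScalarTower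
    letI := Ideal.Quotient.field (maximalIdeal R)
    haveI : Module.Finite (R ⧸ maximalIdeal R) U := Module.Finite.of_restrictScalars_finite R _ _
    exact (ht.semilinearMap.isArtinian_iff_of_bijective Function.bijective_id).2 inferInstance
  let ker : ∀ {n : ℕ}, (Fin n → Det R c) → Submodule R U := fun {n} d =>
    ⨅ i, LinearMap.ker (((Submodule.liftQ (icIdeal R c)
      ((Ideal.Quotient.mkₐ R (Ideal.span {algebraMap R (d i).V c})).toLinearMap.comp (Algebra.linearMap R (d i).V))
      (fun a ha => by
        show Ideal.Quotient.mk _ (algebraMap R (d i).V a) = 0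
        rw [Ideal.Quotient.eq_zero_iff_mem, Ideal.mem_span_singleton]
        exact (((mem_icIdeal hc).1 ha).map (algebraMap R (d i).V)).dvd (d i).ne))).comp U.subtype)
  obtain ⟨N, ⟨n, d, rfl⟩, hmin⟩ := IsArtinian.set_has_minimal
    {N : Submodule R U | ∃ (n : ℕ) (d : Fin n → Det R c), N = ker d} ⟨ker Fin.elim0, 0, Fin.elim0, rfl⟩
  refine ⟨n, d, fun y hy hd => ?_⟩
  by_contra hny
  obtain ⟨d₀, hd₀⟩ := exists_det R c y hc hny hy
  let x : U := ⟨Submodule.Quotient.mk y, (Submodule.mem_torsionBySet_iff _ _).2 fun ⟨q, hq⟩ =>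
    (Submodule.Quotient.mk_eq_zero _).2 (show q * y ∈ icIdeal R c from (mem_icIdeal hc).2 (hy q hq))⟩
  have hxin : x ∈ ker d := by
    simp only [ker, Submodule.mem_iInf, LinearMap.mem_ker]
    intro i
    show Ideal.Quotient.mk _ (algebraMap R (d i).V y) = 0
    exact Ideal.Quotient.eq_zero_iff_mem.2 (Ideal.mem_span_singleton.2 (hd i))
  refine hmin (ker (Fin.cons d₀ d : Fin (n + 1) → Det R c)) ⟨n + 1, _, rfl⟩ (lt_of_le_of_ne ?_ fun he => ?_)
  · refine le_iInf fun i => (iInf_le _ i.succ).trans ?_
    rfl
  · have h1 : x ∈ ker (Fin.cons d₀ d : Fin (n + 1) → Det R c) := he ▸ hxin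
    simp only [ker, Submodule.mem_iInf, LinearMap.mem_ker] at h1
    have h2 : Ideal.Quotient.mk (Ideal.span {algebraMap R d₀.V c}) (algebraMap R d₀.V y) = 0 := h1 0
    exact hd₀ (Ideal.mem_span_singleton.1 (Ideal.Quotient.eq_zero_iff_mem.1 h2))

/-- The key fact: along a flat algebra with geometrically reduced fibres, integrality over `(c)` is detected
by the integral closure of `(c)`. -/
theorem mem_map_icIdeal (D : Type u) [CommRing D] [IsDomain D] [IsNoetherianRing D] (c : D) (hc : c ≠ 0)
    (D' : Type u) [CommRing D'] [Algebra D D'] [Module.Flat D D']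
    (hred : ∀ (Q : Ideal D) [Q.IsPrime] (K : Type u) [Field K] [Algebra (Localization.AtPrime Q) K] [Algebra D K]
      [IsScalarTower D (Localization.AtPrime Q) K], Module.Finite (Localization.AtPrime Q) K → IsReduced (K ⊗[D] D'))
    (z : D') (hz : IntDiv (algebraMap D D' c) z) : z ∈ (icIdeal D c).map (algebraMap D D') := by
  let I := icIdeal D c
  let M := D ⧸ I
  haveI : Finite (associatedPrimes D M) := (associatedPrimes.finite D M).to_subtype
  haveI : ∀ Q : associatedPrimes D M, Q.1.IsPrime := fun Q => IsAssociatedPrime.isPrime Q.2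
  have hcQ : ∀ Q : associatedPrimes D M, algebraMap D (Localization.AtPrime Q.1) c ≠ 0 := fun Q h =>
    hc (IsLocalization.injective (Localization.AtPrime Q.1) Q.1.primeCompl_le_nonZeroDivisors (h.trans (map_zero _).symm))
  haveI : ∀ Q : associatedPrimes D M, IsDomain (Localization.AtPrime Q.1) := fun Q =>
    IsLocalization.isDomain_localization Q.1.primeCompl_le_nonZeroDivisors
  haveI : ∀ Q : associatedPrimes D M, IsNoetherianRing (Localization.AtPrime Q.1) := fun Q =>
    IsLocalization.isNoetherianRing Q.1.primeCompl _ inferInstance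
  choose n d hd using fun Q : associatedPrimes D M => exists_local_detect (Localization.AtPrime Q.1) _ (hcQ Q)
  let ι := Σ Q : associatedPrimes D M, Fin (n Q)
  haveI : Fintype ι := Fintype.ofFinite ι
  classical
  let V : ι → Type u := fun i => (d i.1 i.2).V
  letI : ∀ i, CommRing (V i) := fun i => (d i.1 i.2).ring
  letI : ∀ i, Algebra (Localization.AtPrime i.1.1) (V i) := fun i => (d i.1 i.2).alg
  letI : ∀ i, Algebra D (V i) := fun i =>
    ((algebraMap (Localization.AtPrime i.1.1) (V i)).comp (algebraMap D (Localization.AtPrime i.1.1))).toAlgebra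
  haveI : ∀ i, IsScalarTower D (Localization.AtPrime i.1.1) (V i) := fun i => .of_algebraMap_eq fun _ => rfl
  let J : ∀ i, Ideal (V i) := fun i => Ideal.span {algebraMap D (V i) c}
  have hIJ : ∀ i, ∀ a ∈ I, algebraMap D (V i) a ∈ J i := fun i a ha => by
    haveI : IsDomain (V i) := (d i.1 i.2).dom
    haveI : IsDiscreteValuationRing (V i) := (d i.1 i.2).dvr
    exact Ideal.mem_span_singleton.2 ((((mem_icIdeal hc).1 ha).map (algebraMap D (V i))).dvd (d i.1 i.2).ne)
  let φ : ∀ i, M →ₗ[D] V i ⧸ J i := fun i => Submodule.liftQ I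
    ((Ideal.Quotient.mkₐ D (J i)).toLinearMap.comp (Algebra.linearMap D (V i)))
    fun a ha => Ideal.Quotient.eq_zero_iff_mem.2 (hIJ i a ha)
  have hinj : Function.Injective (LinearMap.pi φ) := by
    rw [← LinearMap.ker_eq_bot]
    by_contra hne
    haveI : Nontrivial (LinearMap.ker (LinearMap.pi φ)) := Submodule.nontrivial_iff_ne_bot.2 hne
    obtain ⟨Q, hQ⟩ := associatedPrimes.nonempty D (LinearMap.ker (LinearMap.pi φ))
    obtain ⟨hQp, x, hQx⟩ := (Submodule.isAssociatedPrime_iff).1 hQ
    haveI := hQp
    have hQM : Q ∈ associatedPrimes D M :=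
      associatedPrimes.subset_of_injective (f := (LinearMap.ker (LinearMap.pi φ)).subtype) Subtype.val_injective hQ
    obtain ⟨y, hy⟩ := Submodule.Quotient.mk_surjective _ (x.1 : M)
    have hQy : ∀ q : D, q ∈ Q ↔ q * y ∈ I := fun q => by
      have h1 : q ∈ Q ↔ q • x = 0 := by rw [hQx, Submodule.mem_colon_singleton, Submodule.mem_bot]
      rw [h1, ← Subtype.coe_inj, Submodule.coe_smul, ← hy, ← Submodule.Quotient.mk_smul, Submodule.coe_zero,
        Submodule.Quotient.mk_eq_zero, smul_eq_mul]
    let R := Localization.AtPrime Q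
    have hyR : ∀ q ∈ maximalIdeal R, IntDiv (algebraMap D R c) (q * algebraMap D R y) := fun q hq => by
      obtain ⟨a, s, rfl⟩ := IsLocalization.exists_mk'_eq Q.primeCompl q
      have ha : a ∈ Q := by
        rw [← IsLocalization.AtPrime.to_map_mem_maximal_iff R Q a, ← IsLocalization.mk'_spec R a s]
        exact Ideal.mul_mem_right _ _ hq
      have h1 := (((mem_icIdeal hc).1 ((hQy a).1 ha)).map (algebraMap D R)).mul_left
        (IsLocalization.mk' R (1 : D) s)
      rwa [map_mul, ← mul_assoc, mul_comm (IsLocalization.mk' R (1 : D) s), IsLocalization.mul_mk'_eq_mk'_of_mul,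
        mul_one] at h1
    have hall : ∀ i : Fin (n ⟨Q, hQM⟩), algebraMap R (d ⟨Q, hQM⟩ i).V (algebraMap D R c) ∣
        algebraMap R (d ⟨Q, hQM⟩ i).V (algebraMap D R y) := fun i => by
      have h0 : φ ⟨⟨Q, hQM⟩, i⟩ (x.1 : M) = 0 := congrFun (LinearMap.mem_ker.1 x.2) ⟨⟨Q, hQM⟩, i⟩
      rw [← hy] at h0
      exact Ideal.mem_span_singleton.1 (Ideal.Quotient.eq_zero_iff_mem.1 h0)
    obtain ⟨s, hs, hsy⟩ := IntDiv.of_localization Q.primeCompl
      (IsLocalization.injective R Q.primeCompl_le_nonZeroDivisors) (hd ⟨Q, hQM⟩ (algebraMap D R y) hyR hall)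
    exact hs ((hQy s).2 ((mem_icIdeal hc).2 hsy))
  have hzero : z ⊗ₜ[D] (Ideal.Quotient.mk I 1 : M) = 0 := by
    refine Module.Flat.lTensor_preserves_injective_linearMap (M := D') _ hinj ?_
    refine (TensorProduct.piRight D D D' fun i => V i ⧸ J i).injective ?_
    rw [map_zero, map_zero]
    funext i
    rw [LinearMap.lTensor_tmul, TensorProduct.piRight_apply, TensorProduct.piRightHom_tmul]
    show z ⊗ₜ[D] (φ i (Ideal.Quotient.mk I (1 : D))) = 0
    haveI : IsDomain (V i) := (d i.1 i.2).dom
    haveI : IsDiscreteValuationRing (V i) := (d i.1 i.2).dvr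
    haveI : Module.Finite (Localization.AtPrime i.1.1) (ResidueField (V i)) := (d i.1 i.2).fin
    obtain ⟨t, ht⟩ := IsDiscreteValuationRing.exists_irreducible (V i)
    obtain ⟨m, v, hv⟩ := IsDiscreteValuationRing.eq_unit_mul_pow_irreducible
      (show algebraMap D (V i) c ≠ 0 from (d i.1 i.2).ne) ht
    let W := V i ⊗[D] D'
    let τ := algebraMap (V i) W t
    have hτ : IsSMulRegular W τ :=
      IsSMulRegular.of_flat (S := W) (fun a b h => mul_left_cancel₀ ht.ne_zero h : IsSMulRegular (V i) t)
    haveI : IsScalarTower D (Localization.AtPrime i.1.1) (ResidueField (V i)) := .of_algebraMap_eq fun a => by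
      rw [IsScalarTower.algebraMap_apply D (V i) (ResidueField (V i)),
        IsScalarTower.algebraMap_apply (Localization.AtPrime i.1.1) (V i) (ResidueField (V i))]
      rfl
    haveI := hred i.1.1 (ResidueField (V i)) inferInstance
    haveI : IsReduced (W ⧸ Ideal.span {τ}) := by
      let f : W →ₐ[D] ResidueField (V i) ⊗[D] D' :=
        Algebra.TensorProduct.map (IsScalarTower.toAlgHom D (V i) (ResidueField (V i))) (AlgHom.id D D')
      have hker : RingHom.ker f = Ideal.span {τ} := by
        rw [Algebra.TensorProduct.map_ker _ _ IsLocalRing.residue_surjective fun a => ⟨a, rfl⟩]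
        have h1 : RingHom.ker (AlgHom.id D D') = ⊥ := (RingHom.injective_iff_ker_eq_bot _).1 Function.injective_id
        have h2 : RingHom.ker (IsScalarTower.toAlgHom D (V i) (ResidueField (V i))) = Ideal.span {t} := by
          rw [← (IsDiscreteValuationRing.irreducible_iff_uniformizer t).1 ht]
          exact IsLocalRing.ker_residue
        rw [h1, h2, Ideal.map_bot, sup_bot_eq, Ideal.map_span, Set.image_singleton]
        rfl
      exact isReduced_of_injective ((RingHom.kerLift f.toRingHom).comp (Ideal.quotEquivOfEq hker.symm).toRingHom)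
        ((RingHom.kerLift_injective f.toRingHom).comp (RingEquiv.injective _))
    have hd' : IntDiv (algebraMap (V i) W (algebraMap D (V i) c)) ((1 : V i) ⊗ₜ[D] z) := by
      have := hz.map (Algebra.TensorProduct.includeRight : D' →ₐ[D] W).toRingHom
      rw [show (Algebra.TensorProduct.includeRight : D' →ₐ[D] W).toRingHom (algebraMap D D' c) =
        algebraMap (V i) W (algebraMap D (V i) c) from
        (AlgHom.commutes _ c).trans (IsScalarTower.algebraMap_apply D (V i) W c)] at this
      exact this
    have hd'' : IntDiv (τ ^ m) ((1 : V i) ⊗ₜ[D] z) := by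
      obtain ⟨k, r, hk⟩ := hd'
      refine ⟨k, fun j => r j * algebraMap (V i) W (v : V i) ^ (k - j), ?_⟩
      rw [← hk, hv]
      simp only [τ, map_mul, map_pow, mul_pow]
      congr 1
      exact Finset.sum_congr rfl fun j _ => by ring
    obtain ⟨w, hw⟩ := IntDiv.dvd_of_reduced hτ m hd''
    let g : W →ₐ[D] (V i ⧸ J i) ⊗[D] D' := Algebra.TensorProduct.map (Ideal.Quotient.mkₐ D (J i)) (AlgHom.id D D')
    have hg0 : g (τ ^ m) = 0 := by
      have : t ^ m ∈ J i := by
        rw [show J i = Ideal.span {algebraMap D (V i) c} from rfl, hv, Ideal.mem_span_singleton]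
        exact (Units.mul_left_dvd (u := v)).2 dvd_rfl
      rw [← map_pow, Algebra.TensorProduct.algebraMap_apply]
      show g ((t ^ m) ⊗ₜ[D] (1 : D')) = 0
      rw [Algebra.TensorProduct.map_tmul,
        show Ideal.Quotient.mkₐ D (J i) (t ^ m) = 0 from Ideal.Quotient.eq_zero_iff_mem.2 this, zero_tmul]
    have h3 : g ((1 : V i) ⊗ₜ[D] z) = 0 := by rw [hw, map_mul, hg0, zero_mul]
    rw [Algebra.TensorProduct.map_tmul, map_one] at h3
    have h4 := congrArg (TensorProduct.comm D (V i ⧸ J i) D') h3
    rw [TensorProduct.comm_tmul, map_zero] at h4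
    refine Eq.trans ?_ h4
    congr 1
    show Ideal.Quotient.mk (J i) (algebraMap D (V i) 1) = 1
    rw [map_one, map_one]
  have h5 := congrArg (TensorProduct.tensorQuotEquivQuotSMul D' I) hzero
  rw [TensorProduct.tensorQuotEquivQuotSMul_tmul_mk, map_zero, one_smul, Submodule.Quotient.mk_eq_zero,
    Ideal.smul_top_eq_map, Submodule.restrictScalars_mem] at h5
  exact h5

end Groth.Agent.NormalBC6
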