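import Mathlib

/-! # Integrality over a principal ideal -/

set_option autoImplicit false
universe u

open Polynomial

namespace Groth.Agent.NormalBC6

/-- `z` is integral over the ideal generated by `c`. -/
def IntDiv {W : Type u} [CommRing W] (c z : W) : Prop :=
  ∃ (n : ℕ) (r : ℕ → W), z ^ n + ∑ i ∈ Finset.range n, r i * c ^ (n - i) * z ^ i = 0

theorem IntDiv.map {W W' : Type u} [CommRing W] [CommRing W'] (f : W →+* W') {c z : W} (h : IntDiv c z) :
    IntDiv (f c) (f z) := by
  obtain ⟨n, r, h⟩ := h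
  refine ⟨n, f ∘ r, ?_⟩
  have := congrArg f h
  simpa [map_sum] using this

/-- A fraction integral over `W` gives integrality over the ideal of the denominator. -/
theorem IntDiv.of_isIntegral {W F : Type u} [CommRing W] [CommRing F] [Algebra W F]
    (hinj : Function.Injective (algebraMap W F)) {c z : W} {x : F}
    (hx : IsIntegral W x) (h : x * algebraMap W F c = algebraMap W F z) : IntDiv c z := by
  obtain ⟨p, hp, hev⟩ := hx
  refine ⟨p.natDegree, p.coeff, hinj ?_⟩
  have h1 : (∑ i ∈ Finset.range (p.natDegree + 1), algebraMap W F (p.coeff i) * x ^ i) *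
      algebraMap W F c ^ p.natDegree = 0 := by
    rw [← Polynomial.eval₂_eq_sum_range, hev, zero_mul]
  rw [Finset.sum_range_succ, hp.coeff_natDegree, map_one, one_mul, add_mul, ← mul_pow, h, Finset.sum_mul] at h1
  rw [map_add, map_zero, map_pow, map_sum, add_comm]
  refine Eq.trans (congrArg (· + _) (Finset.sum_congr rfl fun i hi => ?_)) h1
  have hi' := (Finset.mem_range.1 hi).le
  rw [map_mul, map_mul, map_pow, map_pow, ← h, mul_pow]
  conv_rhs => rw [← Nat.sub_add_cancel hi', pow_add]
  ring

/-- Integrality over the ideal of `c` makes the fraction integral. -/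
theorem IntDiv.isIntegral {W F : Type u} [CommRing W] [CommRing F] [Algebra W F] {c z : W} {x : F}
    (h : IntDiv c z) (hc : IsUnit (algebraMap W F c)) (hx : x * algebraMap W F c = algebraMap W F z) :
    IsIntegral W x := by
  obtain ⟨n, r, h⟩ := h
  let q : W[X] := ∑ i ∈ Finset.range n, C (r i) * X ^ i
  have hq : q.degree < n := by
    refine (Polynomial.degree_sum_le _ _).trans_lt ((Finset.sup_lt_iff (WithBot.bot_lt_coe n)).2 fun i hi => ?_)
    exact (Polynomial.degree_C_mul_X_pow_le _ _).trans_lt (Nat.cast_lt.2 (Finset.mem_range.1 hi))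
  refine ⟨X ^ n + q, Polynomial.monic_X_pow_add hq, ?_⟩
  refine (hc.pow n).mul_left_cancel ?_
  rw [mul_zero, ← map_zero (algebraMap W F), ← h, Polynomial.eval₂_add, Polynomial.eval₂_X_pow,
    Polynomial.eval₂_finsetSum, mul_add, map_add, ← mul_pow, mul_comm (algebraMap W F c) x, hx, map_pow,
    Finset.mul_sum, map_sum]
  congr 1
  refine Finset.sum_congr rfl fun i hi => ?_
  have hi' := (Finset.mem_range.1 hi).le
  rw [Polynomial.eval₂_mul, Polynomial.eval₂_C, Polynomial.eval₂_X_pow, map_mul, map_mul, map_pow, map_pow, ← hx,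
    mul_pow]
  conv_lhs => rw [← Nat.sub_add_cancel hi', pow_add]
  ring

/-- In an integrally closed domain this is divisibility. -/
theorem IntDiv.dvd {V : Type u} [CommRing V] [IsDomain V] [IsIntegrallyClosed V] {c z : V} (hc : c ≠ 0)
    (h : IntDiv c z) : c ∣ z := by
  let F := FractionRing V
  have hc' : algebraMap V F c ≠ 0 := (map_ne_zero_iff _ (IsFractionRing.injective V F)).2 hc
  obtain ⟨v, hv⟩ := IsIntegrallyClosed.isIntegral_iff.1
    (h.isIntegral (x := algebraMap V F z / algebraMap V F c) (isUnit_iff_ne_zero.2 hc') (div_mul_cancel₀ _ hc'))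
  refine ⟨v, IsFractionRing.injective V F ?_⟩
  rw [map_mul, hv, mul_comm, div_mul_cancel₀ _ hc']

/-- Along a regular element with reduced quotient this is divisibility. -/
theorem IntDiv.dvd_of_reduced {W : Type u} [CommRing W] {t : W} (ht : IsSMulRegular W t)
    [IsReduced (W ⧸ Ideal.span {t})] : ∀ (m : ℕ) {z : W}, IntDiv (t ^ m) z → t ^ m ∣ z
  | 0, z, _ => by rw [pow_zero]; exact one_dvd z
  | m + 1, z, h => by
    obtain ⟨n, r, hn⟩ := h
    have hzn : Ideal.Quotient.mk (Ideal.span {t}) z ^ n = 0 := by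
      rw [← map_pow, Ideal.Quotient.eq_zero_iff_mem, eq_neg_of_add_eq_zero_left hn]
      refine (Ideal.neg_mem_iff _).2 (Ideal.sum_mem _ fun i hi => Ideal.mul_mem_right _ _ (Ideal.mul_mem_left _ _ ?_))
      rw [← pow_mul]
      exact Ideal.mem_span_singleton.2 (dvd_pow_self t
        (Nat.mul_ne_zero (Nat.succ_ne_zero m) (Nat.sub_ne_zero_of_lt (Finset.mem_range.1 hi))))
    obtain ⟨z', rfl⟩ := Ideal.mem_span_singleton.1
      (Ideal.Quotient.eq_zero_iff_mem.1 (IsNilpotent.eq_zero ⟨n, hzn⟩))
    have h' : IntDiv (t ^ m) z' := by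
      refine ⟨n, r, ht.pow n ?_⟩
      simp only [smul_eq_mul, mul_zero]
      rw [← hn, mul_add, mul_pow, Finset.mul_sum]
      congr 1
      refine Finset.sum_congr rfl fun i hi => ?_
      have hi' := (Finset.mem_range.1 hi).le
      rw [mul_pow, ← pow_mul, ← pow_mul, add_mul, one_mul, pow_add]
      conv_lhs => rw [← Nat.sub_add_cancel hi', pow_add]
      rw [Nat.add_sub_cancel]
      ring
    obtain ⟨w, hw⟩ := IntDiv.dvd_of_reduced ht m h'
    exact ⟨w, by rw [hw, pow_succ]; ring⟩

end Groth.Agent.NormalBC6
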